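/-
Simple Zassenhaus groups whose kernel is a non-abelian group of two-power order: group facts.
-/
import Cfsg.Agent.Lib.ZassenhausDegree.OddCase
import Cfsg.Agent.Lib.CAEven.Zass
import Cfsg.Agent.S0738
import Cfsg.Agent.S0882
import Cfsg.Agent.S0345
import Cfsg.Agent.S1137
import Cfsg.Agent.S1138

set_option autoImplicit false
set_option linter.unusedSectionVars false
set_option linter.style.haveILetI false
set_option maxHeartbeats 600000

namespace CfsgLib.SuzukiZT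

open MulAction CfsgLib.ZassenhausDegree CfsgLib.Zassenhaus CfsgLib.ZassenhausOdd

universe u v

/-- A simple Zassenhaus group with non-abelian kernel of two-power order. -/
structure Hyp (G : Type u) (Ω : Type v) [Group G] [MulAction G Ω] [Fintype Ω] where
  P : Datum G Ω
  simple : IsSimpleGroup G
  pg : IsPGroup 2 P.H
  na : ∃ u ∈ P.H, ∃ v ∈ P.H, u * v ≠ v * u

variable {G : Type u} {Ω : Type v} [Group G] [Fintype G] [MulAction G Ω] [Fintype Ω]

namespace Hyp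

variable (S : Hyp G Ω)

/-- The order of a two-point stabiliser. -/
noncomputable abbrev e : ℕ := Nat.card S.P.E

/-- The order of the kernel. -/
noncomputable abbrev h : ℕ := Nat.card S.P.H

theorem exists_k : ∃ k, 1 ≤ k ∧ S.h = 2 ^ k := by
  haveI : Fact (Nat.Prime 2) := ⟨Nat.prime_two⟩
  obtain ⟨k, hk⟩ := IsPGroup.iff_card.mp S.pg
  refine ⟨k, Nat.one_le_iff_ne_zero.mpr fun h0 => ?_, hk⟩
  have := S.P.two_le
  rw [hk, h0] at this
  omega

theorem even_h : Even S.h := by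
  obtain ⟨k, hk1, hk⟩ := S.exists_k
  rw [hk]
  exact Nat.even_pow.mpr ⟨even_two, by omega⟩

include S in
theorem odd_omega : Odd (Nat.card Ω) := by
  rw [Nat.card_eq_fintype_card, ← S.P.card]
  exact S.even_h.add_one

theorem odd_e : Odd S.e := by
  haveI : Fact (Nat.Prime 2) := ⟨Nat.prime_two⟩
  rw [← Nat.not_even_iff_odd]
  intro hev
  obtain ⟨⟨t, htE⟩, ht⟩ := exists_prime_orderOf_dvd_card' (G := S.P.E) 2 (even_iff_two_dvd.mp hev)
  rw [Subgroup.orderOf_mk] at ht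
  exact S.P.hab ((CAEven.one_fixed S.P.isZ S.odd_omega ht).2 _ _ (S.P.mem_E.mp htE).1 (S.P.mem_E.mp htE).2)

theorem regular {y z : Ω} (hy : y ≠ S.P.a) (hz : z ≠ S.P.a) : ∃! u : S.P.H, (u : G) • y = z := by
  obtain ⟨u₁, hu₁, e₁⟩ := S.P.exists_move hy
  obtain ⟨u₂, hu₂, e₂⟩ := S.P.exists_move hz
  refine ⟨⟨u₂ * u₁⁻¹, mul_mem hu₂ (inv_mem hu₁)⟩, ?_, fun v hv => ?_⟩
  · show (u₂ * u₁⁻¹) • y = z
    rw [← e₁, mul_smul, inv_smul_smul, e₂]
  · refine Subtype.ext (S.P.inj_smul v.2 (mul_mem hu₂ (inv_mem hu₁)) hy ?_)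
    show (v : G) • y = (u₂ * u₁⁻¹) • y
    rw [hv, ← e₁, mul_smul, inv_smul_smul, e₂]

theorem lt : 2 * S.e < S.h - 1 := by
  by_contra hge
  have hc := S.P.card
  change S.h + 1 = _ at hc
  obtain ⟨h1, -⟩ := Cfsg.Agent.S0738.result S.P.isZ S.P.hab
    (show Fintype.card Ω - 2 ≤ 2 * S.e by omega) S.P.H S.P.le
    ⟨fun u hu x => Subgroup.mem_subgroupOf.mpr (S.P.conj_mem x.2 (Subgroup.mem_subgroupOf.mp hu))⟩
    (fun y z hy hz => S.regular hy hz)
  obtain ⟨u, hu, v, hv, hne⟩ := S.na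
  exact hne (congrArg Subtype.val (h1.is_comm.comm (⟨u, hu⟩ : S.P.H) ⟨v, hv⟩))

theorem comm_E : ∀ x ∈ S.P.E, ∀ y ∈ S.P.E, x * y = y * x :=
  haveI := S.simple
  D_comm S.P.isZ (fun _ _ hcd => card_D_eq S.P.isZ S.P.hab hcd ▸ S.odd_e) S.P.hab

theorem one_class : (∀ x y : G, orderOf x = 2 → orderOf y = 2 → IsConj x y) ∧
    Nat.card {x : G // orderOf x = 2} = S.e * (S.h + 1) := by
  haveI := S.simple
  obtain ⟨h1, h2⟩ := Cfsg.Agent.S0882.result S.P.isZ S.P.hab S.h S.e S.P.card.symm rfl S.odd_e S.lt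
  exact ⟨h1, h2.trans (if_pos S.even_h)⟩

theorem inv_central {s : G} (hs : orderOf s = 2) (hsH : s ∈ S.P.H) :
    Subgroup.centralizer ({s} : Set G) = S.P.H := by
  have hs1 : s ≠ 1 := fun e => by rw [e, orderOf_one] at hs; omega
  have hle : Subgroup.centralizer ({s} : Set G) ≤ S.P.H := fun g hg =>
    S.P.cent hsH hs1 (Subgroup.mem_centralizer_singleton_iff.mp hg)
  refine Subgroup.eq_of_le_of_card_ge hle ?_
  obtain ⟨h1, h2⟩ := S.one_class
  have h3 : Nat.card {x : G // IsConj s x} = Nat.card {x : G // orderOf x = 2} :=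
    Nat.card_congr (Equiv.subtypeEquivRight fun x => ⟨fun hx => by
      obtain ⟨g, rfl⟩ := isConj_iff.mp hx
      rw [Involutions.orderOf_conj, hs], fun hx => h1 s x hs hx⟩)
  have h4 := CfsgLib.CharTheory.card_isConj_mul_card_centralizer (G := G) s
  rw [h3, h2, S.P.card_G] at h4
  have h5 : 0 < S.e * (S.h + 1) := Nat.mul_pos Nat.card_pos (Nat.succ_pos _)
  refine (Nat.eq_of_mul_eq_mul_left h5 ?_).ge
  rw [h4]
  show (S.h + 1) * S.h * S.e = S.e * (S.h + 1) * S.h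
  ring

theorem free {d s : G} (hd : d ∈ S.P.E) (hs : s ∈ S.P.H) (hs1 : s ≠ 1) (hc : d * s * d⁻¹ = s) : d = 1 :=
  S.P.disjoint (S.P.cent hs hs1 (mul_inv_eq_iff_eq_mul.mp hc)) hd

theorem fusion {s t : G} (hs : orderOf s = 2) (hsH : s ∈ S.P.H) (ht : orderOf t = 2) (htH : t ∈ S.P.H) :
    ∃ d ∈ S.P.E, d * s * d⁻¹ = t := by
  obtain ⟨g, rfl⟩ := isConj_iff.mp (S.one_class.1 s t hs ht)
  have hgA : g ∈ S.P.A := S.P.fix_of_conj hsH htH (fun e => by rw [e, orderOf_one] at hs; omega)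
  obtain ⟨u, hu, d, hd, rfl⟩ := S.P.decomp hgA
  refine ⟨d, hd, ?_⟩
  have hdA : d ∈ S.P.A := (Subgroup.mem_inf.mp hd).1
  have h1 : u ∈ Subgroup.centralizer ({d * s * d⁻¹} : Set G) := by
    rw [S.inv_central (by rw [Involutions.orderOf_conj, hs]) (S.P.conj_mem hdA hsH)]
    exact hu
  rw [Subgroup.mem_centralizer_singleton_iff] at h1
  calc d * s * d⁻¹ = u * (d * s * d⁻¹) * u⁻¹ := by rw [h1, mul_inv_cancel_right]
    _ = _ := by group

/-- Conjugation of the kernel by a two-point stabiliser. -/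
noncomputable def conj : S.P.E →* MulAut S.P.K :=
  (MulAut.conjNormal (H := S.P.K)).comp (Subgroup.inclusion inf_le_left)

theorem conj_val (x : S.P.E) (z : S.P.K) :
    (((S.conj x z : S.P.K) : S.P.A) : G) = (x : G) * ((z : S.P.A) : G) * (x : G)⁻¹ := rfl

theorem conj_free {x : S.P.E} {z : S.P.K} (hz : z ≠ 1) (hx : S.conj x z = z) : x = 1 := by
  refine Subtype.ext (S.free x.2 (Subgroup.mem_subgroupOf.mp z.2) (fun e => hz (Subtype.ext (Subtype.ext e))) ?_)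
  rw [← S.conj_val, hx]

theorem orderOf_inv {z : S.P.K} (hz : z ≠ 1) (hz2 : z * z = 1) : orderOf ((z : S.P.A) : G) = 2 := by
  haveI : Fact (Nat.Prime 2) := ⟨Nat.prime_two⟩
  rw [Subgroup.orderOf_coe, Subgroup.orderOf_coe]
  exact orderOf_eq_prime (by rw [pow_two, hz2]) hz

theorem conj_trans {z z' : S.P.K} (hz : z ≠ 1) (hz2 : z * z = 1) (hz' : z' ≠ 1) (hz'2 : z' * z' = 1) :
    ∃ x : S.P.E, S.conj x z = z' := by
  obtain ⟨d, hd, e⟩ := S.fusion (S.orderOf_inv hz hz2) (Subgroup.mem_subgroupOf.mp z.2)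
    (S.orderOf_inv hz' hz'2) (Subgroup.mem_subgroupOf.mp z'.2)
  exact ⟨⟨d, hd⟩, Subtype.ext (Subtype.ext e)⟩

theorem exists_involution : ∃ s : S.P.K, s ≠ 1 ∧ s * s = 1 := by
  haveI : Fact (Nat.Prime 2) := ⟨Nat.prime_two⟩
  obtain ⟨s, hs⟩ := exists_prime_orderOf_dvd_card' (G := S.P.K) 2
    (S.P.card_K ▸ even_iff_two_dvd.mp S.even_h)
  exact ⟨s, fun e => by rw [e, orderOf_one] at hs; omega, by rw [← pow_two, ← hs, pow_orderOf_eq_one]⟩

theorem card_involutions : Nat.card {z : S.P.K // z ≠ 1 ∧ z * z = 1} = S.e := by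
  obtain ⟨s, hs1, hs2⟩ := S.exists_involution
  refine (Nat.card_eq_of_bijective (fun x : S.P.E => (⟨S.conj x s, fun e => hs1 ((S.conj x).injective
    (e.trans (map_one _).symm)), by rw [← map_mul, hs2, map_one]⟩ : {z : S.P.K // z ≠ 1 ∧ z * z = 1}))
    ⟨fun x y e => ?_, fun z => ?_⟩).symm
  · have e' : S.conj x s = S.conj y s := congrArg Subtype.val e
    refine (inv_mul_eq_one.mp (S.conj_free hs1 (x := y⁻¹ * x) ?_)).symm
    rw [map_mul, MulAut.mul_apply, e', ← MulAut.mul_apply, ← map_mul, inv_mul_cancel, map_one, MulAut.one_apply]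
  · obtain ⟨x, hx⟩ := S.conj_trans hs1 hs2 z.2.1 z.2.2
    exact ⟨x, Subtype.ext hx⟩

theorem isSuzukiTwo : Cfsg.IsSuzukiTwoGroup S.P.K := by
  haveI := S.simple
  refine ⟨inferInstance, S.pg.of_equiv (Subgroup.subgroupOfEquivOfLe S.P.le).symm, ?_, ?_, S.conj.range, ?_, ?_⟩
  · obtain ⟨u, hu, v, hv, hne⟩ := S.na
    exact ⟨⟨⟨u, S.P.le hu⟩, Subgroup.mem_subgroupOf.mpr hu⟩, ⟨⟨v, S.P.le hv⟩, Subgroup.mem_subgroupOf.mpr hv⟩,
      fun e => hne (congrArg (fun z : S.P.K => ((z : S.P.A) : G)) e)⟩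
  · haveI : Nontrivial {z : S.P.K // z ≠ 1 ∧ z * z = 1} := by
      rw [← Finite.one_lt_card_iff_nontrivial, S.card_involutions]
      exact S.P.two_le_E
    obtain ⟨x, y, hne⟩ := exists_pair_ne {z : S.P.K // z ≠ 1 ∧ z * z = 1}
    exact ⟨x, y, fun e => hne (Subtype.ext e), x.2.1, x.2.2, y.2.1, y.2.2⟩
  · haveI : IsCyclic S.P.E := (Cfsg.Agent.S0345.result S.P.isZ S.P.hab).1
    exact isCyclic_of_surjective S.conj.rangeRestrict S.conj.rangeRestrict_surjective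
  · intro x y hx1 hx2 hy1 hy2
    obtain ⟨d, hd⟩ := S.conj_trans hx1 hx2 hy1 hy2
    refine ⟨⟨_, d, rfl⟩, hd, ?_⟩
    rintro ⟨_, d', rfl⟩ hd'
    refine Subtype.ext (congrArg S.conj ?_)
    refine (inv_mul_eq_one.mp (S.conj_free hx1 (x := d⁻¹ * d') ?_)).symm
    have hd'' : S.conj d' x = y := hd'
    rw [map_mul, MulAut.mul_apply, hd'', ← hd, ← MulAut.mul_apply, ← map_mul, inv_mul_cancel, map_one,
      MulAut.one_apply]

/-- The order of the centre of the kernel. -/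
noncomputable abbrev q : ℕ := Nat.card (Subgroup.center S.P.K)

theorem sq_center (x : S.P.K) : x * x ∈ Subgroup.center S.P.K :=
  (Cfsg.Agent.S1138.result S.isSuzukiTwo).1 x

theorem comm_center (x y : S.P.K) : x⁻¹ * y⁻¹ * x * y ∈ Subgroup.center S.P.K :=
  (Cfsg.Agent.S1138.result S.isSuzukiTwo).2.1 x y

theorem center_sq {z : S.P.K} (hz : z ∈ Subgroup.center S.P.K) : z * z = 1 :=
  (Cfsg.Agent.S1137.result S.isSuzukiTwo).2 z hz

theorem mem_center_of_sq {z : S.P.K} (hz : z * z = 1) : z ∈ Subgroup.center S.P.K := by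
  by_cases h1 : z = 1
  · rw [h1]; exact one_mem _
  · exact (((Cfsg.Agent.S1137.result S.isSuzukiTwo).1 z).mp ⟨h1, hz⟩).1

theorem q_eq : S.q = S.e + 1 := by
  classical
  rw [← S.card_involutions, ← Finite.card_option]
  refine Nat.card_congr
    { toFun := fun z => if h : (z : S.P.K) = 1 then none else some ⟨z, h, S.center_sq z.2⟩
      invFun := fun o => o.elim 1 fun z => ⟨z, S.mem_center_of_sq z.2.2⟩
      left_inv := fun z => ?_
      right_inv := fun o => ?_ }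
  · by_cases h : (z : S.P.K) = 1
    · simp only [dif_pos h, Option.elim_none]; exact Subtype.ext h.symm
    · simp only [dif_neg h, Option.elim_some]
  · rcases o with _ | z
    · simp
    · simp [z.2.1]

theorem q_pow : ∃ n, 2 ≤ n ∧ S.q = 2 ^ n := by
  haveI : Fact (Nat.Prime 2) := ⟨Nat.prime_two⟩
  obtain ⟨n, hn⟩ := IsPGroup.iff_card.mp
    ((S.pg.of_equiv (Subgroup.subgroupOfEquivOfLe S.P.le).symm).to_subgroup (Subgroup.center S.P.K))
  refine ⟨n, ?_, hn⟩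
  by_contra hlt
  have := S.q_eq
  have := S.P.two_le_E
  change 2 ≤ S.e at this
  have : S.q ≤ 2 := by
    show Nat.card (Subgroup.center S.P.K) ≤ 2
    rw [hn]
    exact (Nat.pow_le_pow_right (by norm_num) (by omega : n ≤ 1))
  omega

theorem card_h : S.h = S.q ^ 2 ∨ S.h = S.q ^ 3 := by
  have := (Cfsg.Agent.S1138.result S.isSuzukiTwo).2.2.1
  rwa [S.P.card_K] at this

theorem four_le_q : 4 ≤ S.q := by
  obtain ⟨n, hn, e⟩ := S.q_pow
  rw [e]
  exact le_trans (by norm_num) (Nat.pow_le_pow_right (by norm_num) hn)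

end Hyp

end CfsgLib.SuzukiZT
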