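/-
Simple Zassenhaus groups with non-abelian kernel of two-power order: characters of the stabiliser
and their multiplicities in the characters of the group.
-/
import Cfsg.Agent.Lib.SuzukiZT.Basic
import Cfsg.Agent.Lib.CharTheory.Degree
import Cfsg.Agent.Lib.CharTheory.Integral
import Cfsg.Agent.Lib.CharTheory.Linear
import Cfsg.Agent.Lib.CharTheory.FeitNilpotent

set_option autoImplicit false
set_option linter.unusedSectionVars false
set_option linter.style.haveILetI false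
set_option maxHeartbeats 1000000

namespace CfsgLib.SuzukiZT

open MulAction Cfsg CfsgLib.CharTheory CfsgLib.ZassenhausDegree
open scoped ComplexConjugate

universe u v

/-- The scalar by which the centre acts in an irreducible character. -/
theorem exists_omega {U : Type u} [Group U] [Finite U] {θ : U → ℂ} (hθ : IsIrrCharacter U θ) :
    ∃ ω : Subgroup.center U →* ℂˣ, ∀ (k : U) (z : Subgroup.center U), θ (k * z) = (ω z : ℂ) * θ k := by
  obtain ⟨n, ρ, hρ, rfl⟩ := hθ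
  haveI := hρ
  haveI := Fintype.ofFinite U
  have hex : ∀ z : Subgroup.center U, ∃ c : ℂ, ρ (z : U) = c • LinearMap.id :=
    fun z => exists_scalar_of_mem_center ρ z.2
  choose c hc using hex
  have hval : ∀ (k : U) (z : Subgroup.center U), ρ.character (k * z) = c z * ρ.character k := fun k z => by
    show LinearMap.trace ℂ _ (ρ (k * z)) = c z * LinearMap.trace ℂ _ (ρ k)
    rw [map_mul, hc]
    rw [show ρ k * c z • (LinearMap.id : Module.End ℂ (Fin n → ℂ)) = c z • ρ k by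
      rw [mul_smul_comm]; rfl]
    rw [map_smul, smul_eq_mul]
  have h1 : ρ.character 1 ≠ 0 := irr_ne_zero (isIrrCharacter_character ρ)
  let f : Subgroup.center U →* ℂ :=
    { toFun := c
      map_one' := by
        have := hval 1 1
        rw [OneMemClass.coe_one, mul_one] at this
        exact mul_right_cancel₀ h1 (this.symm.trans (one_mul _).symm)
      map_mul' := fun z w => by
        apply mul_right_cancel₀ h1
        rw [← hval, Subgroup.coe_mul, ← mul_assoc, hval, hval]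
        ring }
  exact ⟨f.toHomUnits, fun k z => hval k z⟩

variable {G : Type u} {Ω : Type v} [Group G] [Fintype G] [MulAction G Ω] [Fintype Ω]

namespace Hyp

variable (S : Hyp G Ω) [Fintype S.P.A] [Fintype S.P.K] [Fintype S.P.E]

theorem split_bijective :
    Function.Bijective fun p : S.P.K × S.P.E => (p.1 : S.P.A) * Subgroup.inclusion inf_le_left p.2 := by
  rw [Fintype.bijective_iff_injective_and_card, ← Nat.card_eq_fintype_card, ← Nat.card_eq_fintype_card,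
    Nat.card_prod, S.P.card_K, S.P.card_A]
  refine ⟨?_, rfl⟩
  rintro ⟨k, x⟩ ⟨k', x'⟩ e
  have e1 : ((k : S.P.A) : G) * (x : G) = ((k' : S.P.A) : G) * (x' : G) := congrArg Subtype.val e
  have e2 : ((k' : S.P.A) : G)⁻¹ * ((k : S.P.A) : G) = (x' : G) * (x : G)⁻¹ := by
    rw [inv_mul_eq_iff_eq_mul, ← mul_assoc, eq_mul_inv_iff_mul_eq]
    exact e1
  have e3 : ((k' : S.P.A) : G)⁻¹ * ((k : S.P.A) : G) = 1 :=
    S.P.disjoint (mul_mem (inv_mem (Subgroup.mem_subgroupOf.mp k'.2)) (Subgroup.mem_subgroupOf.mp k.2))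
      (by rw [e2]; exact mul_mem x'.2 (inv_mem x.2))
  obtain rfl : k' = k := Subtype.ext (Subtype.ext (inv_mul_eq_one.mp e3))
  obtain rfl : x = x' := Subtype.ext (mul_left_cancel e1)
  rfl

theorem conj_center (x : S.P.E) {z : S.P.K} (hz : z ∈ Subgroup.center S.P.K) :
    S.conj x z ∈ Subgroup.center S.P.K :=
  S.mem_center_of_sq (by rw [← map_mul, S.center_sq hz, map_one])

/-- An induced function at a central element of the kernel. -/
theorem ind_central (θ : S.P.K → ℂ) {z : S.P.K} (hz : z ∈ Subgroup.center S.P.K) :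
    indFun S.P.K θ (z : S.P.A) = ∑ x : S.P.E, θ (S.conj x z) := by
  rw [indFun_normal_apply, ← (S.split_bijective).sum_comp (fun y : S.P.A => θ ⟨y * z * y⁻¹, _⟩),
    Fintype.sum_prod_type]
  have hterm : ∀ (k : S.P.K) (x : S.P.E),
      (⟨(k : S.P.A) * Subgroup.inclusion inf_le_left x * z * ((k : S.P.A) * Subgroup.inclusion inf_le_left x)⁻¹,
        S.P.K_normal.conj_mem _ z.2 _⟩ : S.P.K) = S.conj x z := by
    intro k x
    have h := Subgroup.mem_center_iff.mp (S.conj_center x hz) k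
    refine Subtype.ext ?_
    have h' : (k : S.P.A) * (S.conj x z : S.P.K) = (S.conj x z : S.P.K) * (k : S.P.A) := congrArg Subtype.val h
    have hv : ((S.conj x z : S.P.K) : S.P.A) =
        Subgroup.inclusion inf_le_left x * z * (Subgroup.inclusion inf_le_left x)⁻¹ := rfl
    calc (k : S.P.A) * Subgroup.inclusion inf_le_left x * z * ((k : S.P.A) * Subgroup.inclusion inf_le_left x)⁻¹
        = (k : S.P.A) * (S.conj x z : S.P.K) * (k : S.P.A)⁻¹ := by rw [hv]; group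
      _ = _ := by rw [h', mul_inv_cancel_right]
  simp only [hterm, Finset.sum_const, Finset.card_univ, nsmul_eq_mul, Nat.card_eq_fintype_card]
  rw [inv_mul_cancel_left₀ (Nat.cast_ne_zero.mpr Fintype.card_ne_zero)]

/-- Summing over the conjugates of an involution is summing over the rest of the centre. -/
theorem sum_orbit [Fintype (Subgroup.center S.P.K)] {s : S.P.K} (hs : s ≠ 1) (hs2 : s * s = 1) (f : S.P.K → ℂ) :
    ∑ x : S.P.E, f (S.conj x s) + f 1 = ∑ z : Subgroup.center S.P.K, f (z : S.P.K) := by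
  classical
  rw [← Finset.add_sum_erase _ _ (Finset.mem_univ (1 : Subgroup.center S.P.K)), add_comm, OneMemClass.coe_one]
  congr 1
  refine Finset.sum_bij (fun x _ => ⟨S.conj x s, S.conj_center x (S.mem_center_of_sq hs2)⟩) (fun x _ => ?_)
    (fun x _ y _ e => ?_) (fun z hz => ?_) (fun x _ => rfl)
  · refine Finset.mem_erase.mpr ⟨fun e => hs ?_, Finset.mem_univ _⟩
    exact (S.conj x).injective ((congrArg Subtype.val e).trans (map_one _).symm)
  · have e' : S.conj x s = S.conj y s := congrArg Subtype.val e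
    refine (inv_mul_eq_one.mp (S.conj_free hs (x := y⁻¹ * x) ?_)).symm
    rw [map_mul, MulAut.mul_apply, e', ← MulAut.mul_apply, ← map_mul, inv_mul_cancel, map_one, MulAut.one_apply]
  · obtain ⟨x, hx⟩ := S.conj_trans hs hs2 (fun e => (Finset.mem_erase.mp hz).1 (Subtype.ext e)) (S.center_sq z.2)
    exact ⟨x, Finset.mem_univ _, Subtype.ext hx⟩

theorem degree_one_of_trivial_center {θ : S.P.K → ℂ} (hθ : IsIrrCharacter S.P.K θ)
    (h : ∀ z ∈ Subgroup.center S.P.K, θ z = θ 1) : θ 1 = 1 := by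
  obtain ⟨ψ, hψ, e⟩ := exists_quotient_irr (Subgroup.center S.P.K) hθ h
  rw [congrFun e 1]
  refine degree_one_of_commutative (fun a b => ?_) hψ
  obtain ⟨x, rfl⟩ := QuotientGroup.mk_surjective a
  obtain ⟨y, rfl⟩ := QuotientGroup.mk_surjective b
  rw [← QuotientGroup.mk_mul, ← QuotientGroup.mk_mul, QuotientGroup.eq]
  have := S.comm_center y x
  simpa [mul_assoc] using this

/-- The exceptional characters of the stabiliser: two types. -/
theorem exists_types {s : S.P.K} (hs : s ≠ 1) (hs2 : s * s = 1) :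
    ∃ (δ : IrrCharacter S.P.A → ℕ) (T₁ T₂ : Finset (IrrCharacter S.P.A)),
      S.P.nontriv = T₁ ∪ T₂ ∧ Disjoint T₁ T₂ ∧
      (∀ Θ ∈ S.P.nontriv, 0 < δ Θ ∧ (∃ j, δ Θ = 2 ^ j) ∧ (Θ : S.P.A → ℂ) 1 = (S.e : ℂ) * (δ Θ : ℂ)) ∧
      (∀ Θ ∈ T₁, δ Θ = 1 ∧ (Θ : S.P.A → ℂ) (s : S.P.A) = S.e) ∧
      (∀ Θ ∈ T₂, (Θ : S.P.A → ℂ) (s : S.P.A) = -(δ Θ : ℂ)) ∧
      S.q * (1 + S.e * T₁.card) = S.h ∧ S.q * ∑ Θ ∈ T₂, δ Θ ^ 2 = S.h := by
  classical
  letI : Fintype (Subgroup.center S.P.K) := Fintype.ofFinite _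
  obtain ⟨δ, hδ, hsq, hval⟩ := S.P.exists_delta S.comm_E
  have he0 : (S.e : ℂ) ≠ 0 := Nat.cast_ne_zero.mpr Nat.card_pos.ne'
  have key : ∀ Θ ∈ S.P.nontriv, (∃ j, δ Θ = 2 ^ j) ∧ ((δ Θ = 1 ∧ (Θ : S.P.A → ℂ) (s : S.P.A) = S.e) ∨
      (Θ : S.P.A → ℂ) (s : S.P.A) = -(δ Θ : ℂ)) := by
    intro Θ hΘ
    obtain ⟨θ, hθ, -, eθ⟩ :=
      FrobKernelTI.exists_eq_ind S.P.K S.P.centralizer_le S.P.K_lt_top (S.P.mem_nontriv.mp hΘ)
    have h1 : θ 1 = (δ Θ : ℂ) := by
      have := (hδ Θ hΘ).2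
      rw [eθ, indFun_apply_one, S.P.index_K] at this
      exact mul_left_cancel₀ he0 this
    refine ⟨?_, ?_⟩
    · obtain ⟨k, -, hk⟩ := S.exists_k
      have hd := irr_degree_dvd_index (⊥ : Subgroup S.P.K) hθ (fun n hn => by rw [Subgroup.mem_bot.mp hn]) h1
      rw [Subgroup.index_bot, S.P.card_K] at hd
      obtain ⟨j, -, hj⟩ := (Nat.dvd_prime_pow Nat.prime_two).mp (hk ▸ hd : δ Θ ∣ 2 ^ k)
      exact ⟨j, hj⟩
    obtain ⟨ω, hω⟩ := exists_omega hθ
    have hωz : ∀ z : Subgroup.center S.P.K, θ (z : S.P.K) = (ω z : ℂ) * (δ Θ : ℂ) := fun z => by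
      have := hω 1 z
      rwa [one_mul, h1] at this
    have hsum := S.sum_orbit hs hs2 θ
    rw [← S.ind_central θ (S.mem_center_of_sq hs2), ← congrFun eθ, Finset.sum_congr rfl fun z _ => hωz z,
      ← Finset.sum_mul, h1] at hsum
    by_cases hω1 : ω = 1
    · left
      have hd1 : δ Θ = 1 := by
        have := S.degree_one_of_trivial_center hθ (fun z hz => by
          rw [show θ z = θ ((⟨z, hz⟩ : Subgroup.center S.P.K) : S.P.K) from rfl, hωz, hω1, MonoidHom.one_apply,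
            Units.val_one, one_mul, h1])
        rw [h1] at this
        exact_mod_cast this
      refine ⟨hd1, ?_⟩
      rw [hω1] at hsum
      simp only [MonoidHom.one_apply, Units.val_one, Finset.sum_const, Finset.card_univ, nsmul_eq_mul, mul_one,
        ← Nat.card_eq_fintype_card, hd1, Nat.cast_one] at hsum
      change (Θ : S.P.A → ℂ) (s : S.P.A) + 1 = (S.q : ℂ) at hsum
      rw [S.q_eq, Nat.cast_add, Nat.cast_one] at hsum
      exact add_right_cancel hsum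
    · right
      have hne : ((Units.coeHom ℂ).comp ω) ≠ 1 := fun e => hω1 (MonoidHom.ext fun z => Units.ext (by
        simpa using DFunLike.congr_fun e z))
      have h0 := sum_hom_units_eq_zero _ hne
      simp only [MonoidHom.comp_apply, Units.coeHom_apply] at h0
      rw [h0, zero_mul] at hsum
      exact eq_neg_of_add_eq_zero_left hsum
  set T₁ := S.P.nontriv.filter fun Θ : IrrCharacter S.P.A => (Θ : S.P.A → ℂ) (s : S.P.A) = S.e with hT₁
  set T₂ := S.P.nontriv.filter fun Θ : IrrCharacter S.P.A => ¬ (Θ : S.P.A → ℂ) (s : S.P.A) = S.e with hT₂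
  have h₁ : ∀ Θ ∈ T₁, δ Θ = 1 ∧ (Θ : S.P.A → ℂ) (s : S.P.A) = S.e := by
    intro Θ hΘ
    obtain ⟨hΘn, hv⟩ := Finset.mem_filter.mp hΘ
    rcases (key Θ hΘn).2 with ⟨hd, -⟩ | hneg
    · exact ⟨hd, hv⟩
    · exfalso
      have h0 : ((S.e + δ Θ : ℕ) : ℂ) = 0 := by push_cast; linear_combination hneg - hv
      have := (hδ Θ hΘn).1
      rw [Nat.cast_eq_zero] at h0
      omega
  have h₂ : ∀ Θ ∈ T₂, (Θ : S.P.A → ℂ) (s : S.P.A) = -(δ Θ : ℂ) := fun Θ hΘ =>
    ((key Θ (Finset.mem_filter.mp hΘ).1).2).resolve_left fun h => (Finset.mem_filter.mp hΘ).2 h.2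
  have hun : S.P.nontriv = T₁ ∪ T₂ := (Finset.filter_union_filter_not_eq _ _).symm
  have hdis : Disjoint T₁ T₂ := Finset.disjoint_filter_filter_not _ _ _
  set A2 := ∑ Θ ∈ T₂, δ Θ ^ 2 with hA2
  have e1 := hval s (fun e => hs (Subtype.ext e))
  rw [hun, Finset.sum_union hdis,
    Finset.sum_congr (s₁ := T₁) rfl (fun Θ hΘ => by rw [(h₁ Θ hΘ).1, (h₁ Θ hΘ).2, Nat.cast_one, one_mul]),
    Finset.sum_congr (s₁ := T₂) rfl (fun Θ hΘ => by rw [h₂ Θ hΘ] :
      ∀ Θ ∈ T₂, (δ Θ : ℂ) * (Θ : S.P.A → ℂ) (s : S.P.A) = (δ Θ : ℂ) * -(δ Θ : ℂ)),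
    Finset.sum_const, nsmul_eq_mul] at e1
  have e2 : (1 + S.e * T₁.card : ℕ) = A2 := by
    have : ((1 + S.e * T₁.card : ℕ) : ℂ) = (A2 : ℂ) := by
      rw [hA2]; push_cast
      have h3 : ∑ Θ ∈ T₂, (δ Θ : ℂ) * -(δ Θ : ℂ) = -∑ Θ ∈ T₂, (δ Θ : ℂ) ^ 2 := by
        rw [← Finset.sum_neg_distrib]; exact Finset.sum_congr rfl fun Θ _ => by ring
      rw [h3] at e1
      linear_combination e1
    exact_mod_cast this
  have e3 : S.h = 1 + S.e * (T₁.card + A2) := by
    rw [show S.h = _ from hsq, hun, Finset.sum_union hdis,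
      Finset.sum_congr (s₁ := T₁) rfl (fun Θ hΘ => by rw [(h₁ Θ hΘ).1, one_pow]), Finset.sum_const,
      smul_eq_mul, mul_one]
  have hq := S.q_eq
  refine ⟨δ, T₁, T₂, hun, hdis, fun Θ hΘ => ⟨(hδ Θ hΘ).1, (key Θ hΘ).1, (hδ Θ hΘ).2⟩, h₁, h₂, ?_, ?_⟩
  · rw [hq, e3, ← e2]; ring
  · rw [← hA2, ← e2, hq, e3, ← e2]; ring

/-- An induced exceptional character on the kernel away from the identity. -/
theorem ind_value {Θ : IrrCharacter S.P.A} (hΘ : Θ ∈ S.P.nontriv) {x : S.P.A} (hx : x ∈ S.P.K) (hx1 : x ≠ 1) :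
    indFun S.P.A (Θ : S.P.A → ℂ) (x : G) = (Θ : S.P.A → ℂ) x := by
  classical
  set g : S.P.A → ℂ := fun y => if y = 1 then (Θ : S.P.A → ℂ) 1 else 0 with hg
  have hg0 : indFun S.P.A g (x : G) = 0 := by
    simp only [indFun]
    rw [Finset.sum_eq_zero, mul_zero]
    intro y _
    by_cases hm : y⁻¹ * (x : G) * y ∈ S.P.A
    · rw [extendByZero_of_mem _ _ hm, hg]
      simp only
      rw [if_neg]
      intro e
      refine hx1 (Subtype.ext ?_)
      have h1 : y⁻¹ * (x : G) * y = 1 := congrArg Subtype.val e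
      calc (x : G) = y * (y⁻¹ * (x : G) * y) * y⁻¹ := by group
        _ = ((1 : S.P.A) : G) := by rw [h1]; simp
    · exact extendByZero_of_not_mem _ _ hm
  have h := indFun_apply_of_TI S.P.A (Subtype.val '' (S.P.K : Set S.P.A)) S.P.ti
    (f := (Θ : S.P.A → ℂ) - g) (isClassFunction_sub (isClassFunction_irr Θ.2) fun y z => by
      simp only [hg, mul_inv_eq_one, mul_eq_left])
    (fun y hy => by
      have hyK : y ∉ S.P.K := fun h => hy ⟨y, h, rfl⟩
      rw [Pi.sub_apply, FrobKernelTI.vanish S.P.K S.P.centralizer_le S.P.K_lt_top (S.P.mem_nontriv.mp hΘ) hyK,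
        hg]
      simp [show y ≠ 1 from fun e => hyK (e ▸ S.P.K.one_mem)])
    (by simp [hg]) x ⟨x, hx, rfl⟩
  rw [indFun_sub, Pi.sub_apply, hg0, sub_zero] at h
  rw [h, Pi.sub_apply, hg]
  simp [hx1]

theorem sum_conj_irr {Θ : IrrCharacter S.P.A} (hΘ : Θ ∈ S.P.nontriv) :
    ∑ x : S.P.A, conj ((Θ : S.P.A → ℂ) x) = 0 := by
  have hne : (fun _ : S.P.A => (1 : ℂ)) ≠ (Θ : S.P.A → ℂ) := fun e => by
    obtain ⟨-, k, -, hk⟩ := S.P.mem_nontriv.mp hΘ
    exact hk (by rw [← e])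
  have := classInner_irr_ne isIrrCharacter_one Θ.2 hne
  simp only [classInner, one_mul] at this
  exact (mul_eq_zero.mp this).resolve_left (inv_ne_zero (Nat.cast_ne_zero.mpr Nat.card_pos.ne'))

/-- Against an exceptional character only the jump at the identity matters. -/
theorem inner_const {Θ : IrrCharacter S.P.A} (hΘ : Θ ∈ S.P.nontriv) {d : ℕ}
    (hd : (Θ : S.P.A → ℂ) 1 = (S.e : ℂ) * (d : ℂ)) (f : S.P.A → ℂ) {c : ℂ}
    (hc : ∀ x ∈ S.P.K, x ≠ 1 → f x = c) :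
    classInner f (Θ : S.P.A → ℂ) = (f 1 - c) * (d : ℂ) / (S.h : ℂ) := by
  classical
  have h1 : ∀ x : S.P.A, f x * conj ((Θ : S.P.A → ℂ) x) =
      c * conj ((Θ : S.P.A → ℂ) x) + if x = 1 then (f 1 - c) * conj ((Θ : S.P.A → ℂ) x) else 0 := by
    intro x
    by_cases hx : x = 1
    · rw [if_pos hx, hx]; ring
    rw [if_neg hx, add_zero]
    by_cases hxK : x ∈ S.P.K
    · rw [hc x hxK hx]
    · rw [FrobKernelTI.vanish S.P.K S.P.centralizer_le S.P.K_lt_top (S.P.mem_nontriv.mp hΘ) hxK, map_zero,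
        mul_zero, mul_zero]
  simp only [classInner, h1]
  rw [Finset.sum_add_distrib, ← Finset.mul_sum, S.sum_conj_irr hΘ, mul_zero, zero_add,
    Finset.sum_ite_eq' Finset.univ (1 : S.P.A), if_pos (Finset.mem_univ _), hd, map_mul, Complex.conj_natCast,
    Complex.conj_natCast, S.P.card_A]
  have he0 : (S.e : ℂ) ≠ 0 := Nat.cast_ne_zero.mpr Nat.card_pos.ne'
  have hh0 : (S.h : ℂ) ≠ 0 := Nat.cast_ne_zero.mpr Nat.card_pos.ne'
  push_cast
  field_simp

/-- The multiplicity of a character of the stabiliser in a character of the group. -/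
noncomputable def b (φ : IrrCharacter G) (Θ : IrrCharacter S.P.A) : ℕ :=
  (classInner_char_nat (isCharacter_restrict (isCharacter_of_irr φ.2) S.P.A) (isCharacter_of_irr Θ.2)).choose

theorem b_spec (φ : IrrCharacter G) (Θ : IrrCharacter S.P.A) :
    classInner (fun x : S.P.A => (φ : G → ℂ) x) (Θ : S.P.A → ℂ) = (S.b φ Θ : ℂ) :=
  (classInner_char_nat (isCharacter_restrict (isCharacter_of_irr φ.2) S.P.A)
    (isCharacter_of_irr Θ.2)).choose_spec

theorem b_ind (φ : IrrCharacter G) (Θ : IrrCharacter S.P.A) :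
    classInner (indFun S.P.A (Θ : S.P.A → ℂ)) (φ : G → ℂ) = (S.b φ Θ : ℂ) := by
  rw [frobenius_reciprocity S.P.A _ (isClassFunction_irr φ.2), ← classInner_comm, S.b_spec, Complex.conj_natCast]

/-- The total Gram matrix. -/
theorem gram_total {δ : IrrCharacter S.P.A → ℕ}
    (hδ : ∀ Θ ∈ S.P.nontriv, (Θ : S.P.A → ℂ) 1 = (S.e : ℂ) * (δ Θ : ℂ))
    {Θ Θ' : IrrCharacter S.P.A} (hΘ : Θ ∈ S.P.nontriv) (hΘ' : Θ' ∈ S.P.nontriv) [Decidable (Θ = Θ')] :
    ∑ φ : IrrCharacter G, S.b φ Θ * S.b φ Θ' = (if Θ = Θ' then 1 else 0) + S.e * (δ Θ * δ Θ') := by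
  classical
  have h := classInner_eq_sum_irr (a := indFun S.P.A (Θ : S.P.A → ℂ)) (b := indFun S.P.A (Θ' : S.P.A → ℂ))
    (indFun_isClassFunction _ _)
  simp only [← classInner_comm (indFun S.P.A (Θ' : S.P.A → ℂ)), S.b_ind, Complex.conj_natCast] at h
  rw [classInner_comm, frobenius_reciprocity S.P.A _ (indFun_isClassFunction S.P.A (Θ' : S.P.A → ℂ))] at h
  have h1 : classInner (Θ : S.P.A → ℂ) (fun x : S.P.A => indFun S.P.A (Θ' : S.P.A → ℂ) x) =
      classInner (Θ : S.P.A → ℂ) (Θ' : S.P.A → ℂ) + ((S.e : ℂ) * ((δ Θ : ℂ) * (δ Θ' : ℂ))) := by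
    have hx : ∀ x : S.P.A, (Θ : S.P.A → ℂ) x * conj (indFun S.P.A (Θ' : S.P.A → ℂ) x) =
        (Θ : S.P.A → ℂ) x * conj ((Θ' : S.P.A → ℂ) x) +
          if x = 1 then (S.h : ℂ) * ((Θ : S.P.A → ℂ) 1 * (Θ' : S.P.A → ℂ) 1) else 0 := by
      intro x
      by_cases hx1 : x = 1
      · subst hx1
        rw [if_pos rfl, OneMemClass.coe_one, indFun_apply_one, hδ Θ' hΘ']
        have hidx : (S.P.A).index = S.h + 1 := by
          have := S.P.A.card_mul_index
          rw [S.P.card_A, S.P.card_G] at this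
          refine Nat.eq_of_mul_eq_mul_left (Nat.mul_pos Nat.card_pos Nat.card_pos) (this.trans ?_)
          show (S.h + 1) * S.h * S.e = S.h * S.e * (S.h + 1)
          ring
        rw [hidx]; simp only [map_mul, Complex.conj_natCast]; push_cast; ring
      rw [if_neg hx1, add_zero]
      by_cases hxK : x ∈ S.P.K
      · rw [S.ind_value hΘ' hxK hx1]
      · rw [FrobKernelTI.vanish S.P.K S.P.centralizer_le S.P.K_lt_top (S.P.mem_nontriv.mp hΘ) hxK, zero_mul,
          zero_mul]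
    simp only [classInner, hx]
    rw [Finset.sum_add_distrib, Finset.sum_ite_eq' Finset.univ (1 : S.P.A), if_pos (Finset.mem_univ _), mul_add,
      hδ Θ hΘ, hδ Θ' hΘ', S.P.card_A]
    have he0 : (S.e : ℂ) ≠ 0 := Nat.cast_ne_zero.mpr Nat.card_pos.ne'
    have hh0 : (S.h : ℂ) ≠ 0 := Nat.cast_ne_zero.mpr Nat.card_pos.ne'
    push_cast
    field_simp
  rw [h1, classInner_irr Θ.2 Θ'.2] at h
  have h2 : ((∑ φ : IrrCharacter G, S.b φ Θ * S.b φ Θ' : ℕ) : ℂ) =
      (((if Θ = Θ' then 1 else 0) + S.e * (δ Θ * δ Θ') : ℕ) : ℂ) := by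
    push_cast
    rw [← h]
    by_cases e : Θ = Θ'
    · simp [e]
    · simp [e, Subtype.coe_ne_coe.mpr e]
  exact_mod_cast h2

/-- Outside a set `T₀` the multiplicities are proportional to the degrees; inside, the Gram matrix. -/
theorem exists_gram {δ : IrrCharacter S.P.A → ℕ}
    (hδ : ∀ Θ ∈ S.P.nontriv, (Θ : S.P.A → ℂ) 1 = (S.e : ℂ) * (δ Θ : ℂ)) [DecidableEq (IrrCharacter S.P.A)] :
    ∃ T₀ : Finset (IrrCharacter G),
      (∀ φ ∉ T₀, ∃ c : ℕ, ∀ Θ ∈ S.P.nontriv, S.b φ Θ = c * δ Θ) ∧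
      (∀ Θ ∈ S.P.nontriv, ∀ Θ' ∈ S.P.nontriv, 2 * ∑ φ ∈ T₀, (S.b φ Θ : ℤ) * S.b φ Θ' =
        2 * (if Θ = Θ' then 1 else 0) + ((S.q : ℤ) - 2) * ((δ Θ : ℤ) * δ Θ')) ∧
      ∀ φ ∈ T₀, (φ : G → ℂ) ≠ (fun _ => 1) ∧ ∀ x : S.P.A,
        (φ : G → ℂ) x = ∑ Θ ∈ S.P.nontriv, (S.b φ Θ : ℂ) * (Θ : S.P.A → ℂ) x := by
  classical
  haveI := S.simple
  have hcomm := S.comm_E
  have hodd := S.odd_e
  have hcard := S.P.card
  change S.h + 1 = _ at hcard
  have hh0 : (S.h : ℂ) ≠ 0 := Nat.cast_ne_zero.mpr Nat.card_pos.ne'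
  obtain ⟨St, hSt⟩ := S.P.exists_steinberg
  set one : IrrCharacter G := ⟨fun _ => 1, isIrrCharacter_one⟩ with hone
  set trivA : IrrCharacter S.P.A := ⟨fun _ => 1, isIrrCharacter_one⟩ with htrivA
  have htrivmem : trivA ∈ S.P.triv := S.P.mem_triv.mpr fun _ _ => rfl
  set M := S.P.triv.erase trivA with hM
  have hMirr : ∀ μ ∈ M, IsIrrCharacter G (indFun S.P.A (μ : S.P.A → ℂ)) ∧
      ∀ v ∈ S.P.H, v ≠ 1 → indFun S.P.A (μ : S.P.A → ℂ) v = 1 := by
    intro μ hμ
    obtain ⟨hμ1, hμT⟩ := Finset.mem_erase.mp hμ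
    refine Cfsg.Agent.S0881.result S.P.isZ S.P.hab hodd ?_ S.P.H S.P.le S.P.card S.P.fix (μ : S.P.A → ℂ)
      ⟨isCharacter_of_irr μ.2, S.P.triv_one hcomm hμT⟩
      (fun v hv => S.P.triv_apply hcomm hμT (Subgroup.mem_subgroupOf.mpr hv))
      (fun h => hμ1 (Subtype.ext h))
    change S.e < Fintype.card Ω - 2
    have := S.lt
    omega
  set Th : IrrCharacter S.P.A → IrrCharacter G :=
    fun μ => if hμ : μ ∈ M then ⟨_, (hMirr μ hμ).1⟩ else one with hTh
  have hThv : ∀ μ ∈ M, (Th μ : G → ℂ) = indFun S.P.A (μ : S.P.A → ℂ) := fun μ hμ => by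
    simp only [hTh, dif_pos hμ]
  have hTh1 : ∀ μ ∈ M, (Th μ : G → ℂ) 1 = (S.h : ℂ) + 1 := fun μ hμ => by
    rw [hThv μ hμ, indFun_apply_one, S.P.triv_one hcomm (Finset.mem_erase.mp hμ).2, mul_one,
      show S.P.A.index = S.h + 1 from ?_]
    · push_cast; rfl
    have := S.P.A.card_mul_index
    rw [S.P.card_A, S.P.card_G] at this
    refine Nat.eq_of_mul_eq_mul_left (Nat.mul_pos Nat.card_pos Nat.card_pos) (this.trans ?_)
    show (S.h + 1) * S.h * S.e = S.h * S.e * (S.h + 1)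
    ring
  have hThx : ∀ μ ∈ M, ∀ x ∈ S.P.K, x ≠ 1 → (Th μ : G → ℂ) (x : S.P.A) = 1 := fun μ hμ x hx hx1 => by
    rw [hThv μ hμ]
    exact (hMirr μ hμ).2 _ (Subgroup.mem_subgroupOf.mp hx) (fun e => hx1 (Subtype.ext e))
  have hSt1 : (St : G → ℂ) 1 = S.h := by rw [hSt, Pi.sub_apply, S.P.perm_char_one]; ring
  have hStx : ∀ x ∈ S.P.K, x ≠ 1 → (St : G → ℂ) (x : S.P.A) = 0 := fun x hx hx1 => by
    rw [hSt, Pi.sub_apply, S.P.perm_char_kernel (Subgroup.mem_subgroupOf.mp hx) (fun e => hx1 (Subtype.ext e)),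
      sub_self]
  set X := M.image Th with hX
  have hThone : ∀ μ ∈ M, Th μ ≠ one := fun μ hμ heq => by
    have e1 := hTh1 μ hμ
    rw [heq] at e1
    have e2 : (1 : ℂ) = (S.h : ℂ) + 1 := e1
    exact hh0 (by linear_combination -e2)
  have hThSt : ∀ μ ∈ M, Th μ ≠ St := fun μ hμ heq => by
    have e1 := hTh1 μ hμ
    rw [heq, hSt1] at e1
    exact one_ne_zero (α := ℂ) (by linear_combination -e1)
  have hSt_one : one ≠ St := fun heq => by
    obtain ⟨u0, hu0, hu01⟩ := SetLike.exists_of_lt (bot_lt_iff_ne_bot.mpr S.P.K_ne_bot)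
    have e1 : ((one : IrrCharacter G) : G → ℂ) ((u0 : S.P.A) : G) = 1 := rfl
    rw [heq, hStx u0 hu0 (fun e => hu01 (e ▸ Subgroup.one_mem _))] at e1
    exact zero_ne_one e1
  have honeX : one ∉ insert St X := fun h => by
    rcases Finset.mem_insert.mp h with e | h
    · exact hSt_one e
    · obtain ⟨μ, hμ, e⟩ := Finset.mem_image.mp h
      exact hThone μ hμ e
  have hStX : St ∉ X := fun h => by
    obtain ⟨μ, hμ, e⟩ := Finset.mem_image.mp h
    exact hThSt μ hμ e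
  -- coefficients
  have hinner : ∀ (φ : IrrCharacter G) (μ : IrrCharacter S.P.A),
      classInner (fun x : S.P.A => (φ : G → ℂ) x) (μ : S.P.A → ℂ) =
        classInner (φ : G → ℂ) (indFun S.P.A (μ : S.P.A → ℂ)) := fun φ μ =>
    (frobenius_reciprocity' S.P.A _ (isClassFunction_irr φ.2)).symm
  have hperm : ∀ φ : IrrCharacter G, φ ≠ one → φ ≠ St →
      classInner (φ : G → ℂ) (indFun S.P.A (trivA : S.P.A → ℂ)) = 0 := by
    intro φ h1 h2
    have e1 : indFun S.P.A (trivA : S.P.A → ℂ) = (fun _ => (1 : ℂ)) + (St : G → ℂ) := by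
      rw [hSt, add_sub_cancel]
    rw [e1, classInner_add_right, classInner_irr_ne φ.2 isIrrCharacter_one (fun h => h1 (Subtype.ext h)),
      classInner_irr_ne φ.2 St.2 (fun h => h2 (Subtype.ext h)), add_zero]
  have hfib : ∀ φ ∈ X, (M.filter fun μ => Th μ = φ).card = 2 := by
    intro φ hφ
    obtain ⟨μ0, hμ0, rfl⟩ := Finset.mem_image.mp hφ
    have e1 := S.P.sum_inner_triv hcomm (fun x : S.P.A => (Th μ0 : G → ℂ) x)
    rw [← Finset.add_sum_erase _ _ htrivmem, hinner, hperm _ (hThone μ0 hμ0) (hThSt μ0 hμ0), zero_add,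
      ← hM, Finset.sum_congr rfl (fun μ hμ => by rw [hinner, ← hThv μ hμ]),
      Finset.sum_congr rfl (fun μ _ => show classInner (Th μ0 : G → ℂ) (Th μ : G → ℂ) =
        if Th μ = Th μ0 then 1 else 0 from by
          by_cases heq : Th μ = Th μ0
          · rw [if_pos heq, heq, classInner_irr_self (Th μ0).2]
          · rw [if_neg heq, classInner_irr_ne (Th μ0).2 (Th μ).2 fun h => heq (Subtype.ext h).symm]),
      Finset.sum_boole, ← Finset.add_sum_erase _ _ (Finset.mem_univ (1 : S.P.K)),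
      Finset.sum_congr (s₁ := Finset.univ.erase (1 : S.P.K)) rfl (fun x hx => hThx μ0 hμ0 x x.2
          (fun h => Finset.ne_of_mem_erase hx (Subtype.ext h))),
      Finset.sum_const, Finset.card_erase_of_mem (Finset.mem_univ _), Finset.card_univ,
      ← Nat.card_eq_fintype_card, S.P.card_K, nsmul_eq_mul, Nat.cast_sub (Nat.one_le_of_lt S.P.two_le)] at e1
    simp only [Subgroup.coe_one] at e1
    rw [hTh1 μ0 hμ0] at e1
    change _ = (S.h : ℂ)⁻¹ * ((S.h : ℂ) + 1 + ((S.h : ℂ) - _) * 1) at e1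
    have e2 : ((M.filter fun μ => Th μ = Th μ0).card : ℂ) = 2 := by
      rw [e1]; push_cast; field_simp; ring
    exact_mod_cast e2
  have hXcard : 2 * X.card + 1 = S.e := by
    have e1 : M.card = 2 * X.card := by
      rw [Finset.card_eq_sum_card_fiberwise (f := Th) (t := X) fun μ hμ => Finset.mem_image_of_mem _ hμ,
        Finset.sum_congr rfl hfib, Finset.sum_const, smul_eq_mul, mul_comm]
    have e2 : S.P.triv.card = S.e := S.P.card_triv hcomm
    rw [← e2, ← Finset.card_erase_add_one htrivmem, ← hM, e1]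
  set T₀ := Finset.univ \ insert one (insert St X) with hT₀
  -- values on the special characters
  have hbone : ∀ Θ ∈ S.P.nontriv, S.b one Θ = 0 := fun Θ hΘ => by
    have := S.b_spec one Θ
    rw [S.inner_const hΘ (hδ Θ hΘ) _ (c := 1) (fun _ _ _ => rfl)] at this
    have e : (S.b one Θ : ℂ) = 0 := by rw [← this]; simp [hone]
    exact_mod_cast e
  have hbX : ∀ φ ∈ insert St X, ∀ Θ ∈ S.P.nontriv, S.b φ Θ = δ Θ := by
    intro φ hφ Θ hΘ
    have hdata : ∃ c : ℂ, (∀ x ∈ S.P.K, x ≠ 1 → (φ : G → ℂ) (x : S.P.A) = c) ∧ (φ : G → ℂ) 1 - c = S.h := by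
      rcases Finset.mem_insert.mp hφ with rfl | hφ
      · exact ⟨0, hStx, by rw [hSt1, sub_zero]⟩
      · obtain ⟨μ, hμ, rfl⟩ := Finset.mem_image.mp hφ
        exact ⟨1, hThx μ hμ, by rw [hTh1 μ hμ, add_sub_cancel_right]⟩
    obtain ⟨c, hc, h1⟩ := hdata
    have := S.b_spec φ Θ
    rw [S.inner_const hΘ (hδ Θ hΘ) _ hc, OneMemClass.coe_one, h1, mul_div_cancel_left₀ _ hh0] at this
    exact_mod_cast this.symm
  refine ⟨T₀, fun φ hφ => ?_, fun Θ hΘ Θ' hΘ' => ?_, fun φ hφ => ?_⟩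
  · simp only [hT₀, Finset.mem_sdiff, Finset.mem_univ, true_and, not_not] at hφ
    rcases Finset.mem_insert.mp hφ with rfl | hφ
    · exact ⟨0, fun Θ hΘ => by rw [hbone Θ hΘ, zero_mul]⟩
    · exact ⟨1, fun Θ hΘ => by rw [hbX φ hφ Θ hΘ, one_mul]⟩
  · have e1 := S.gram_total hδ hΘ hΘ'
    rw [← Finset.sum_sdiff (Finset.subset_univ (insert one (insert St X))), ← hT₀,
      Finset.sum_insert honeX, hbone Θ hΘ, zero_mul, zero_add,
      Finset.sum_congr (s₁ := insert St X) rfl (fun φ hφ => by rw [hbX φ hφ Θ hΘ, hbX φ hφ Θ' hΘ']),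
      Finset.sum_const, smul_eq_mul, Finset.card_insert_of_notMem hStX] at e1
    have e2 : (∑ φ ∈ T₀, (S.b φ Θ : ℤ) * S.b φ Θ') + ((X.card : ℤ) + 1) * ((δ Θ : ℤ) * δ Θ') =
        (if Θ = Θ' then 1 else 0) + (S.e : ℤ) * ((δ Θ : ℤ) * δ Θ') := by exact_mod_cast e1
    have e3 : 2 * (X.card : ℤ) + 1 = S.e := by exact_mod_cast hXcard
    have e4 : (S.q : ℤ) = (S.e : ℤ) + 1 := by exact_mod_cast S.q_eq
    linear_combination 2 * e2 - ((δ Θ : ℤ) * δ Θ') * e3 - ((δ Θ : ℤ) * δ Θ') * e4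
  · simp only [hT₀, Finset.mem_sdiff, Finset.mem_univ, true_and, Finset.mem_insert, not_or] at hφ
    have hrest : ∀ μ ∈ S.P.triv, classInner (fun x : S.P.A => (φ : G → ℂ) x) (μ : S.P.A → ℂ) = 0 := by
      intro μ hμ
      rw [hinner]
      by_cases hμ1 : μ = trivA
      · rw [hμ1]; exact hperm φ hφ.1 hφ.2.1
      · have hμM : μ ∈ M := Finset.mem_erase.mpr ⟨hμ1, hμ⟩
        rw [← hThv μ hμM]
        exact classInner_irr_ne φ.2 (Th μ).2 fun h =>
          hφ.2.2 (Finset.mem_image.mpr ⟨μ, hμM, (Subtype.ext h).symm⟩)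
    refine ⟨fun e => hφ.1 (Subtype.ext e), fun x => ?_⟩
    have h1 := congrFun (eq_sum_irr (isClassFunction_char
      (isCharacter_restrict (isCharacter_of_irr φ.2) S.P.A))) x
    rw [Finset.sum_apply, S.P.sum_split, Finset.sum_eq_zero (s := S.P.triv) (fun μ hμ => by
      rw [Pi.smul_apply, hrest μ hμ, zero_smul]), zero_add] at h1
    rw [h1]
    exact Finset.sum_congr rfl fun Θ _ => by rw [Pi.smul_apply, S.b_spec, smul_eq_mul]

end Hyp

end CfsgLib.SuzukiZT
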