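/-
Families of exceptional characters of equal degree, and the divisibility coming from class sums.
-/
import Cfsg.Agent.Lib.SuzukiZT.Chars
import Cfsg.Agent.Lib.CharTheory.Burnside

set_option autoImplicit false
set_option linter.unusedSectionVars false
set_option linter.style.haveILetI false
set_option maxHeartbeats 1000000

namespace CfsgLib.SuzukiZT

open MulAction Cfsg CfsgLib.CharTheory CfsgLib.ZassenhausDegree
open scoped ComplexConjugate

universe u v

theorem sum_shift {α : Type*} [DecidableEq α] {T : Finset α} {x : α} (hx : x ∈ T) (β f : α → ℤ) (ε : ℤ) :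
    ∑ φ ∈ T, (β φ + if φ = x then ε else 0) * f φ = ∑ φ ∈ T, β φ * f φ + ε * f x := by
  simp only [add_mul, ite_mul, zero_mul, Finset.sum_add_distrib, Finset.sum_ite_eq', if_pos hx]

variable {G : Type u} {Ω : Type v} [Group G] [Fintype G] [MulAction G Ω] [Fintype Ω]

namespace Hyp

variable (S : Hyp G Ω) [Fintype S.P.A] [Fintype S.P.K] [Fintype S.P.E]

/-- Exceptional characters of equal degree have coherent multiplicities. -/
theorem exists_family [DecidableEq (IrrCharacter G)] {δ : IrrCharacter S.P.A → ℕ}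
    (hδ : ∀ Θ ∈ S.P.nontriv, (Θ : S.P.A → ℂ) 1 = (S.e : ℂ) * (δ Θ : ℂ))
    {T : Finset (IrrCharacter S.P.A)} (hT : T ⊆ S.P.nontriv) {d : ℕ} (hd : ∀ Θ ∈ T, δ Θ = d)
    (hT2 : 2 ≤ T.card) {T₀ : Finset (IrrCharacter G)}
    (hT₀ : ∀ φ ∉ T₀, ∃ c : ℕ, ∀ Θ ∈ S.P.nontriv, S.b φ Θ = c * δ Θ) :
    ∃ (ε : ℤ) (μ : IrrCharacter S.P.A → IrrCharacter G) (β : IrrCharacter G → ℤ),
      (ε = 1 ∨ ε = -1) ∧ Set.InjOn μ (T : Set (IrrCharacter S.P.A)) ∧ (∀ Θ ∈ T, μ Θ ∈ T₀) ∧
      ∀ φ, ∀ Θ ∈ T, (S.b φ Θ : ℤ) = β φ + if φ = μ Θ then ε else 0 := by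
  classical
  let g : Fin T.card → IrrCharacter S.P.A := fun i => (T.equivFin.symm i).1
  have hgm : ∀ i, g i ∈ T := fun i => (T.equivFin.symm i).2
  have hgi : Function.Injective g := fun i j e => T.equivFin.symm.injective (Subtype.ext e)
  let i₀ : Fin T.card := ⟨0, by omega⟩
  let τ : Fin T.card → (G → ℂ) :=
    fun i => indFun S.P.A (g i : S.P.A → ℂ) - indFun S.P.A (g i₀ : S.P.A → ℂ)
  have hgen : ∀ i, IsGeneralizedCharacter G (τ i) := fun i =>
    ⟨_, _, isCharacter_indFun _ (isCharacter_of_irr (g i).2), isCharacter_indFun _ (isCharacter_of_irr (g i₀).2), rfl⟩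
  have hone : ∀ i, τ i 1 = 0 := fun i => by
    simp only [τ, Pi.sub_apply, indFun_apply_one, hδ _ (hT (hgm i)), hδ _ (hT (hgm i₀)), hd _ (hgm i),
      hd _ (hgm i₀), sub_self]
  have hip : ∀ i j, classInner (indFun S.P.A (g i : S.P.A → ℂ)) (indFun S.P.A (g j : S.P.A → ℂ)) =
      (if i = j then 1 else 0) + (S.e : ℂ) * ((d : ℂ) * d) := by
    intro i j
    rw [classInner_eq_sum_irr (indFun_isClassFunction _ _)]
    simp only [← classInner_comm (indFun S.P.A (g j : S.P.A → ℂ)), S.b_ind, Complex.conj_natCast]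
    have := S.gram_total hδ (hT (hgm i)) (hT (hgm j))
    rw [hd _ (hgm i), hd _ (hgm j)] at this
    have h' : ((∑ φ : IrrCharacter G, S.b φ (g i) * S.b φ (g j) : ℕ) : ℂ) =
        (((if g i = g j then 1 else 0) + S.e * (d * d) : ℕ) : ℂ) := by rw [this]
    push_cast at h'
    rw [h']
    by_cases e : i = j
    · simp [e]
    · simp [e, hgi.eq_iff]
  obtain ⟨ε, hε, μ, hμirr, hμinj, hτ⟩ := exists_coherent_family i₀ τ (sub_self _) hgen hone fun i j hi hj => by
    simp only [τ, classInner_sub_left, classInner_sub_right, hip]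
    by_cases e : i = j
    · subst e
      simp [hi, Ne.symm hi]
      ring
    · simp [e, hi, Ne.symm hj]
  obtain ⟨εz, hεz, rfl⟩ : ∃ z : ℤ, (z = 1 ∨ z = -1) ∧ (z : ℂ) = ε := by
    rcases hε with rfl | rfl
    · exact ⟨1, Or.inl rfl, by simp⟩
    · exact ⟨-1, Or.inr rfl, by simp⟩
  let μ' : Fin T.card → IrrCharacter G := fun i => ⟨μ i, hμirr i⟩
  let ν : IrrCharacter S.P.A → IrrCharacter G := fun Θ => if h : Θ ∈ T then μ' (T.equivFin ⟨Θ, h⟩) else μ' i₀
  let β : IrrCharacter G → ℤ := fun φ => (S.b φ (g i₀) : ℤ) - if φ = μ' i₀ then εz else 0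
  have key : ∀ φ i, (S.b φ (g i) : ℤ) = β φ + if φ = μ' i then εz else 0 := by
    intro φ i
    have h1 := congrArg (fun f => classInner f (φ : G → ℂ)) (hτ i)
    simp only [τ, classInner_sub_left, S.b_ind, classInner_smul_left] at h1
    have h2 : ∀ k, classInner (μ k) (φ : G → ℂ) = if φ = μ' k then 1 else 0 := fun k => by
      by_cases e : φ = μ' k
      · rw [if_pos e, e]; exact classInner_irr_self (hμirr k)
      · rw [if_neg e]
        exact classInner_irr_ne (hμirr k) φ.2 fun h => e (Subtype.ext h.symm)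
    rw [h2, h2] at h1
    have h3 : (S.b φ (g i) : ℤ) - S.b φ (g i₀) =
        εz * ((if φ = μ' i then 1 else 0) - if φ = μ' i₀ then 1 else 0) := by exact_mod_cast h1
    simp only [β, mul_sub, mul_ite, mul_one, mul_zero] at h3 ⊢
    linarith
  have hin : ∀ i, μ' i ∈ T₀ := by
    intro i
    by_contra hi
    obtain ⟨c, hc⟩ := hT₀ _ hi
    have hconst : ∀ j, (S.b (μ' i) (g j) : ℤ) = c * d := fun j => by
      rw [hc _ (hT (hgm j)), hd _ (hgm j)]; push_cast; rfl
    obtain ⟨j, hj⟩ : ∃ j, j ≠ i := Fintype.exists_ne_of_one_lt_card (by rw [Fintype.card_fin]; omega) i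
    have e1 := key (μ' i) i
    have e2 := key (μ' i) j
    rw [hconst, if_pos rfl] at e1
    rw [hconst, if_neg (fun e => hj (hμinj (congrArg Subtype.val e)).symm)] at e2
    rcases hεz with rfl | rfl <;> omega
  have hν : ∀ Θ (h : Θ ∈ T), ν Θ = μ' (T.equivFin ⟨Θ, h⟩) := fun Θ h => dif_pos h
  refine ⟨εz, ν, β, hεz, fun Θ hΘ Θ' hΘ' e => ?_, fun Θ hΘ => hν Θ hΘ ▸ hin _, fun φ Θ hΘ => ?_⟩
  · rw [hν Θ hΘ, hν Θ' hΘ'] at e
    exact congrArg Subtype.val (T.equivFin.injective (hμinj (congrArg Subtype.val e)))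
  · have := key φ (T.equivFin ⟨Θ, hΘ⟩)
    rw [show g (T.equivFin ⟨Θ, hΘ⟩) = Θ by simp [g]] at this
    rw [hν Θ hΘ]
    exact this

/-- The class of the involution gives a divisibility. -/
theorem dvd_of_values {s : S.P.K} (hs : s ≠ 1) (hs2 : s * s = 1) {φ : IrrCharacter G} {M V : ℤ}
    (hM : (φ : G → ℂ) 1 = (S.e : ℂ) * (M : ℂ)) (hV : (φ : G → ℂ) ((s : S.P.A) : G) = (V : ℂ)) :
    M ∣ ((S.h : ℤ) + 1) * V := by
  have hM0 : M ≠ 0 := fun e => irr_ne_zero φ.2 (by rw [hM, e]; simp)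
  have hidx : (Subgroup.centralizer ({((s : S.P.A) : G)} : Set G)).index = (S.h + 1) * S.e := by
    rw [S.inv_central (S.orderOf_inv hs hs2) (Subgroup.mem_subgroupOf.mp s.2)]
    have := S.P.H.card_mul_index
    rw [S.P.card_G] at this
    refine Nat.eq_of_mul_eq_mul_left (Nat.card_pos (α := S.P.H)) (this.trans ?_)
    show (S.h + 1) * S.h * S.e = S.h * ((S.h + 1) * S.e)
    ring
  obtain ⟨n, ρ, hρ, hφ⟩ := φ.2
  haveI := hρ
  have hint := isIntegral_index_mul_div ρ ((s : S.P.A) : G)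
  rw [hidx, ← ρ.char_one, hφ, hM, hV] at hint
  have he : (S.e : ℂ) ≠ 0 := Nat.cast_ne_zero.mpr Nat.card_pos.ne'
  have hMC : (M : ℂ) ≠ 0 := Int.cast_ne_zero.mpr hM0
  have e1 : (((S.h + 1) * S.e : ℕ) : ℂ) * (V : ℂ) / ((S.e : ℂ) * (M : ℂ)) =
      ((((S.h : ℚ) + 1) * V / M : ℚ) : ℂ) := by
    push_cast; field_simp
  rw [e1] at hint
  obtain ⟨k, hk⟩ := exists_int_of_isIntegral_ratCast hint
  refine ⟨k, ?_⟩
  rw [div_eq_iff (Int.cast_ne_zero.mpr hM0)] at hk
  have : (((S.h : ℤ) + 1) * V : ℤ) = ((M * k : ℤ) : ℤ) := by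
    have e2 : ((((S.h : ℤ) + 1) * V : ℤ) : ℚ) = ((M * k : ℤ) : ℚ) := by push_cast; rw [hk]; ring
    exact_mod_cast e2
  exact this

theorem false_of_kernel {s : S.P.K} (hs : s ≠ 1) {φ : IrrCharacter G} (hφ : (φ : G → ℂ) ≠ fun _ => 1)
    (h : (φ : G → ℂ) ((s : S.P.A) : G) = (φ : G → ℂ) 1) : False := by
  haveI := S.simple
  have hc := isCharacter_of_irr φ.2
  rcases IsSimpleGroup.eq_bot_or_eq_top_of_normal (charKernel _ hc) inferInstance with e | e
  · have := (mem_charKernel hc _).mpr h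
    rw [e, Subgroup.mem_bot] at this
    exact hs (Subtype.ext (Subtype.ext this))
  · exact hφ (irr_eq_one_of_kernel_top φ.2 fun g => (mem_charKernel hc g).mp (e ▸ Subgroup.mem_top g))

end Hyp

end CfsgLib.SuzukiZT
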