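/-
Characters of the kernel over a non-trivial character of its centre.
-/
import Cfsg.Agent.Lib.SuzukiZT.Family
import Cfsg.Agent.Lib.CharTheory.More
import Cfsg.Agent.Lib.CharTheory.FrobeniusSchur
import Mathlib.GroupTheory.FiniteAbelian.Duality
import Mathlib.RingTheory.RootsOfUnity.AlgebraicallyClosed
import Mathlib.Analysis.Complex.Polynomial.Basic

set_option autoImplicit false
set_option linter.unusedSectionVars false
set_option linter.style.haveILetI false
set_option maxHeartbeats 1000000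

namespace CfsgLib.SuzukiZT

open MulAction Cfsg CfsgLib.CharTheory CfsgLib.ZassenhausDegree
open scoped ComplexConjugate

universe u v

variable {G : Type u} {Ω : Type v} [Group G] [Fintype G] [MulAction G Ω] [Fintype Ω]

namespace Hyp

variable (S : Hyp G Ω) [Fintype S.P.A] [Fintype S.P.K] [Fintype S.P.E]

/-- The commutator as an element of the centre. -/
noncomputable def comm (a y : S.P.K) : Subgroup.center S.P.K :=
  ⟨a * y * a⁻¹ * y⁻¹, by simpa using S.comm_center a⁻¹ y⁻¹⟩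

theorem comm_mul (a b y : S.P.K) : S.comm (a * b) y = S.comm b y * S.comm a y := by
  refine Subtype.ext ?_
  show a * b * y * (a * b)⁻¹ * y⁻¹ = ((S.comm b y : S.P.K)) * (a * y * a⁻¹ * y⁻¹)
  have h := Subgroup.mem_center_iff.mp (S.comm b y).2 a
  calc a * b * y * (a * b)⁻¹ * y⁻¹ = a * (S.comm b y : S.P.K) * (y * a⁻¹ * y⁻¹) := by
        show _ = a * (b * y * b⁻¹ * y⁻¹) * (y * a⁻¹ * y⁻¹)
        group
    _ = _ := by rw [h]; group

/-- The restriction of a conjugation to the centre. -/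
noncomputable def conjZ (x : S.P.E) : Subgroup.center S.P.K →* Subgroup.center S.P.K where
  toFun z := ⟨S.conj x z, S.conj_center x z.2⟩
  map_one' := Subtype.ext (map_one _)
  map_mul' a b := Subtype.ext (map_mul (S.conj x) (a : S.P.K) (b : S.P.K))

theorem conjZ_comm (x : S.P.E) (a y : S.P.K) : S.conjZ x (S.comm a y) = S.comm (S.conj x a) (S.conj x y) := by
  refine Subtype.ext ?_
  show S.conj x (a * y * a⁻¹ * y⁻¹) = _
  simp only [map_mul, map_inv]
  rfl

theorem fixed_omega {ω : Subgroup.center S.P.K →* ℂˣ} (hω : ω ≠ 1) {x : S.P.E}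
    (h : ω.comp (S.conjZ x) = ω) : x = 1 := by
  by_contra hx
  let f : Subgroup.center S.P.K → Subgroup.center S.P.K := fun z => S.conjZ x z * z⁻¹
  have hinj : Function.Injective f := by
    intro a b e
    by_contra hab
    refine hx (S.conj_free (x := x) (z := ((b⁻¹ * a : Subgroup.center S.P.K) : S.P.K))
      (fun e' => hab (inv_mul_eq_one.mp (Subtype.ext e' : b⁻¹ * a = 1)).symm) ?_)
    have e1 : S.conjZ x (b⁻¹ * a) = b⁻¹ * a := by
      haveI : IsMulCommutative (Subgroup.center S.P.K) := inferInstance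
      have e' : S.conjZ x a * a⁻¹ = S.conjZ x b * b⁻¹ := e
      have hc : ∀ u v : Subgroup.center S.P.K, u * v = v * u := fun u v => mul_comm' u v
      rw [map_mul, map_inv, ← mul_inv_eq_one]
      calc (S.conjZ x b)⁻¹ * S.conjZ x a * (b⁻¹ * a)⁻¹
          = (S.conjZ x b)⁻¹ * (S.conjZ x a * a⁻¹) * b := by group
        _ = (S.conjZ x b)⁻¹ * (S.conjZ x b * b⁻¹) * b := by rw [e']
        _ = 1 := by group
    exact congrArg Subtype.val e1
  refine hω (MonoidHom.ext fun z => ?_)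
  obtain ⟨w, hw⟩ := Finite.surjective_of_injective hinj z
  rw [← hw]
  show ω (S.conjZ x w * w⁻¹) = 1
  rw [map_mul, map_inv, ← MonoidHom.comp_apply, h, mul_inv_cancel]

theorem omega_trans {ω ω' : Subgroup.center S.P.K →* ℂˣ} (hω : ω ≠ 1) (hω' : ω' ≠ 1) :
    ∃ x : S.P.E, ω.comp (S.conjZ x) = ω' := by
  letI : CommGroup (Subgroup.center S.P.K) :=
    { (inferInstance : Group (Subgroup.center S.P.K)) with mul_comm := fun u v => mul_comm' u v }
  haveI : Finite (Subgroup.center S.P.K →* ℂˣ) := Finite.of_equiv _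
    (CommGroup.monoidHom_mulEquiv_of_hasEnoughRootsOfUnity (Subgroup.center S.P.K) ℂ).some.symm.toEquiv
  have hcomp : ∀ (x y : S.P.E), S.conjZ (x * y) = (S.conjZ x).comp (S.conjZ y) := fun x y =>
    MonoidHom.ext fun z => Subtype.ext (by
      show S.conj (x * y) z = S.conj x (S.conj y z)
      rw [map_mul]; rfl)
  have hne : ∀ x : S.P.E, ω.comp (S.conjZ x) ≠ 1 := fun x e => hω (MonoidHom.ext fun z => by
    have := DFunLike.congr_fun e (S.conjZ x⁻¹ z)
    rw [MonoidHom.comp_apply, ← MonoidHom.comp_apply (S.conjZ x), ← hcomp, mul_inv_cancel] at this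
    simpa [conjZ] using this)
  let F : S.P.E → {w : Subgroup.center S.P.K →* ℂˣ // w ≠ 1} := fun x => ⟨ω.comp (S.conjZ x), hne x⟩
  have hinj : Function.Injective F := by
    intro x y e
    have e' : ω.comp (S.conjZ x) = ω.comp (S.conjZ y) := congrArg Subtype.val e
    refine (inv_mul_eq_one.mp (S.fixed_omega (hne y) (x := y⁻¹ * x) ?_)).symm
    rw [MonoidHom.comp_assoc, ← hcomp, mul_inv_cancel_left, e']
  have hcard : Nat.card {w : Subgroup.center S.P.K →* ℂˣ // w ≠ 1} ≤ Nat.card S.P.E := by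
    classical
    letI := Fintype.ofFinite (Subgroup.center S.P.K →* ℂˣ)
    have h1 : Nat.card (Subgroup.center S.P.K →* ℂˣ) = S.q :=
      CommGroup.card_monoidHom_of_hasEnoughRootsOfUnity _ ℂ
    rw [Nat.card_eq_fintype_card] at h1 ⊢
    rw [Fintype.card_subtype_compl, Fintype.card_subtype_eq, h1, S.q_eq]
    change S.e + 1 - 1 ≤ S.e
    omega
  obtain ⟨x, hx⟩ := (hinj.bijective_of_nat_card_le hcard).2 ⟨ω', hω'⟩
  exact ⟨x, congrArg Subtype.val hx⟩

/-- A character of the second type comes from a character over a non-trivial central character. -/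
theorem omega_data {s : S.P.K} (hs : s ≠ 1) (hs2 : s * s = 1) {Θ : IrrCharacter S.P.A} (hΘ : Θ ∈ S.P.nontriv)
    {d : ℕ} (hd : (Θ : S.P.A → ℂ) 1 = (S.e : ℂ) * (d : ℂ)) (hsval : (Θ : S.P.A → ℂ) (s : S.P.A) = -(d : ℂ))
    (hd0 : 0 < d) :
    ∃ (θ : S.P.K → ℂ) (ω : Subgroup.center S.P.K →* ℂˣ), IsIrrCharacter S.P.K θ ∧ θ 1 = (d : ℂ) ∧ ω ≠ 1 ∧
      ∀ (k : S.P.K) (z : Subgroup.center S.P.K), θ (k * z) = (ω z : ℂ) * θ k := by
  obtain ⟨θ, hθ, -, eθ⟩ :=
    FrobKernelTI.exists_eq_ind S.P.K S.P.centralizer_le S.P.K_lt_top (S.P.mem_nontriv.mp hΘ)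
  have he0 : (S.e : ℂ) ≠ 0 := Nat.cast_ne_zero.mpr Nat.card_pos.ne'
  have h1 : θ 1 = (d : ℂ) := by
    rw [eθ, indFun_apply_one, S.P.index_K] at hd
    exact mul_left_cancel₀ he0 hd
  obtain ⟨ω, hω⟩ := exists_omega hθ
  refine ⟨θ, ω, hθ, h1, fun hω1 => ?_, hω⟩
  rw [eθ, S.ind_central θ (S.mem_center_of_sq hs2)] at hsval
  rw [Finset.sum_congr rfl (fun x _ => show θ (S.conj x s) = (d : ℂ) from by
    have := hω 1 ⟨S.conj x s, S.conj_center x (S.mem_center_of_sq hs2)⟩
    rw [one_mul, hω1, MonoidHom.one_apply, Units.val_one, one_mul, h1] at this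
    exact this), Finset.sum_const, Finset.card_univ, ← Nat.card_eq_fintype_card, nsmul_eq_mul] at hsval
  have h0 : ((S.e * d + d : ℕ) : ℂ) = 0 := by push_cast; linear_combination hsval
  rw [Nat.cast_eq_zero] at h0
  omega

open Classical in
/-- The radical of the commutator form of a central character. -/
noncomputable def rad (ω : Subgroup.center S.P.K →* ℂˣ) : Finset S.P.K :=
  Finset.univ.filter fun y => ∀ a, ω (S.comm a y) = 1

theorem norm_sq {θ : S.P.K → ℂ} (hθ : IsIrrCharacter S.P.K θ) {d : ℕ} (hd : θ 1 = (d : ℂ)) (hd0 : 0 < d)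
    {ω : Subgroup.center S.P.K →* ℂˣ} (hω : ∀ (k : S.P.K) (z : Subgroup.center S.P.K), θ (k * z) = (ω z : ℂ) * θ k)
    (y : S.P.K) [Decidable (y ∈ S.rad ω)] :
    θ y * conj (θ y) = if y ∈ S.rad ω then (d : ℂ) ^ 2 else 0 := by
  classical
  have hd' : (d : ℂ) ≠ 0 := Nat.cast_ne_zero.mpr hd0.ne'
  have hK : (Nat.card S.P.K : ℂ) ≠ 0 := Nat.cast_ne_zero.mpr Nat.card_pos.ne'
  let f : S.P.K →* ℂ :=
    { toFun := fun a => (ω (S.comm a y) : ℂ)
      map_one' := by rw [show S.comm 1 y = 1 from Subtype.ext (show 1 * y * 1⁻¹ * y⁻¹ = (1 : S.P.K) by group),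
        map_one, Units.val_one]
      map_mul' := fun a b => by rw [S.comm_mul, map_mul, Units.val_mul, mul_comm] }
  have h := sum_conj_mul_char hθ y y⁻¹
  rw [Finset.sum_congr rfl (fun a _ => show θ (a * y * a⁻¹ * y⁻¹) = (d : ℂ) * f a from by
    have := hω 1 (S.comm a y)
    rw [one_mul, hd, mul_comm] at this
    exact this), ← Finset.mul_sum, char_apply_inv (isCharacter_of_irr hθ), hd] at h
  have h' : θ y * conj (θ y) = (d : ℂ) ^ 2 * (∑ a, f a) / (Nat.card S.P.K : ℂ) := by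
    field_simp at h ⊢
    linear_combination (norm := ring_nf) -h
  rw [h']
  by_cases hy : y ∈ S.rad ω
  · rw [if_pos hy, Finset.sum_congr rfl (fun a _ => show f a = 1 from by
      show (ω (S.comm a y) : ℂ) = 1
      rw [(Finset.mem_filter.mp hy).2 a, Units.val_one]), Finset.sum_const, Finset.card_univ,
      ← Nat.card_eq_fintype_card, nsmul_eq_mul, mul_one, mul_div_assoc, div_self hK, mul_one]
  · have hf : f ≠ 1 := fun e => hy (Finset.mem_filter.mpr ⟨Finset.mem_univ _, fun a =>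
      Units.ext (DFunLike.congr_fun e a)⟩)
    rw [if_neg hy, sum_hom_units_eq_zero f hf, mul_zero, zero_div]

theorem card_rad {θ : S.P.K → ℂ} (hθ : IsIrrCharacter S.P.K θ) {d : ℕ} (hd : θ 1 = (d : ℂ)) (hd0 : 0 < d)
    {ω : Subgroup.center S.P.K →* ℂˣ} (hω : ∀ (k : S.P.K) (z : Subgroup.center S.P.K), θ (k * z) = (ω z : ℂ) * θ k) :
    d ^ 2 * (S.rad ω).card = S.h := by
  classical
  have h := sum_mul_conj_irr hθ
  rw [Finset.sum_congr rfl fun y _ => S.norm_sq hθ hd hd0 hω y, ← Finset.sum_filter, Finset.filter_mem_eq_inter,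
    Finset.univ_inter, Finset.sum_const, nsmul_eq_mul, S.P.card_K] at h
  rw [mul_comm]
  exact_mod_cast h

theorem card_rad_eq {ω ω' : Subgroup.center S.P.K →* ℂˣ} (hω : ω ≠ 1) (hω' : ω' ≠ 1) :
    (S.rad ω).card = (S.rad ω').card := by
  classical
  obtain ⟨x, rfl⟩ := S.omega_trans hω hω'
  symm
  refine Finset.card_equiv (S.conj x).toEquiv fun y => ?_
  simp only [rad, Finset.mem_filter, Finset.mem_univ, true_and, MonoidHom.comp_apply, conjZ_comm]
  exact ⟨fun h a => by have := h ((S.conj x).symm a); simpa using this, fun h a => h _⟩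

/-- All characters of the second type have the same degree. -/
theorem delta_eq {s : S.P.K} (hs : s ≠ 1) (hs2 : s * s = 1) {Θ Θ' : IrrCharacter S.P.A}
    (hΘ : Θ ∈ S.P.nontriv) (hΘ' : Θ' ∈ S.P.nontriv) {d d' : ℕ} (hd0 : 0 < d) (hd'0 : 0 < d')
    (hd : (Θ : S.P.A → ℂ) 1 = (S.e : ℂ) * (d : ℂ)) (hd' : (Θ' : S.P.A → ℂ) 1 = (S.e : ℂ) * (d' : ℂ))
    (hv : (Θ : S.P.A → ℂ) (s : S.P.A) = -(d : ℂ)) (hv' : (Θ' : S.P.A → ℂ) (s : S.P.A) = -(d' : ℂ)) : d = d' := by
  obtain ⟨θ, ω, hθ, h1, hω, hωv⟩ := S.omega_data hs hs2 hΘ hd hv hd0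
  obtain ⟨θ', ω', hθ', h1', hω', hωv'⟩ := S.omega_data hs hs2 hΘ' hd' hv' hd'0
  have e := S.card_rad hθ h1 hd0 hωv
  have e' := S.card_rad hθ' h1' hd'0 hωv'
  rw [S.card_rad_eq hω hω', ← e'] at e
  have hpos : 0 < (S.rad ω').card := by
    rcases Nat.eq_zero_or_pos (S.rad ω').card with h0 | h0
    · rw [h0, mul_zero] at e'; exact absurd e'.symm Nat.card_pos.ne'
    · exact h0
  exact Nat.pow_left_injective (by norm_num) (Nat.eq_of_mul_eq_mul_right hpos e)

/-- When the order is the square of that of the centre, no character has degree squared equal to it. -/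
theorem sq_ne_q (hh : S.h = S.q ^ 2) {θ : S.P.K → ℂ} (hθ : IsIrrCharacter S.P.K θ) {d : ℕ}
    (hd : θ 1 = (d : ℂ)) (hd0 : 0 < d) {ω : Subgroup.center S.P.K →* ℂˣ} (hω1 : ω ≠ 1)
    (hω : ∀ (k : S.P.K) (z : Subgroup.center S.P.K), θ (k * z) = (ω z : ℂ) * θ k) : d ^ 2 ≠ S.q := by
  classical
  intro hdq
  letI : Fintype (Subgroup.center S.P.K) := Fintype.ofFinite _
  have hq := S.four_le_q
  set Zf : Finset S.P.K := Finset.univ.filter fun y => y ∈ Subgroup.center S.P.K with hZf
  have hZc : Zf.card = S.q := by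
    rw [hZf, ← Fintype.card_subtype, ← Nat.card_eq_fintype_card]
  have hrad : S.rad ω = Zf := by
    have hc := S.card_rad hθ hd hd0 hω
    rw [hdq, hh, pow_two] at hc
    have hc' := Nat.eq_of_mul_eq_mul_left (by omega) hc
    refine (Finset.eq_of_subset_of_card_le (fun y hy => ?_) (by rw [hc', hZc])).symm
    refine Finset.mem_filter.mpr ⟨Finset.mem_univ _, fun a => ?_⟩
    have : S.comm a y = 1 := Subtype.ext (by
      show a * y * a⁻¹ * y⁻¹ = 1
      rw [Subgroup.mem_center_iff.mp (Finset.mem_filter.mp hy).2 a, mul_inv_cancel_right, mul_inv_cancel])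
    rw [this, map_one]
  have hval : ∀ z : Subgroup.center S.P.K, θ (z : S.P.K) = (ω z : ℂ) * (d : ℂ) := fun z => by
    have := hω 1 z
    rwa [one_mul, hd] at this
  have hωre : ∀ z : Subgroup.center S.P.K, conj (ω z : ℂ) = (ω z : ℂ) := fun z => by
    have h2 : (ω z : ℂ) * (ω z : ℂ) = 1 := by
      rw [← Units.val_mul, ← map_mul, show z * z = 1 from Subtype.ext (S.center_sq z.2), map_one, Units.val_one]
    rcases mul_self_eq_one_iff.mp h2 with e | e <;> rw [e] <;> simp
  have hreal : ∀ y, conj (θ y) = θ y := by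
    intro y
    by_cases hy : y ∈ Subgroup.center S.P.K
    · rw [show θ y = θ ((⟨y, hy⟩ : Subgroup.center S.P.K) : S.P.K) from rfl, hval, map_mul, hωre,
        Complex.conj_natCast]
    · have h := S.norm_sq hθ hd hd0 hω y
      rw [if_neg (fun h' => hy (Finset.mem_filter.mp (hrad ▸ h')).2), mul_eq_zero] at h
      rcases h with h | h
      · rw [h, map_zero]
      · rw [h, (map_eq_zero _).mp h]
  obtain ⟨n, ρ, hρ, e⟩ := hθ
  haveI := hρ
  have hsq : ∑ x : S.P.K, θ (x * x) = 0 := by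
    let sq : S.P.K → Subgroup.center S.P.K := fun x => ⟨x * x, S.sq_center x⟩
    rw [Finset.sum_congr rfl (fun x _ => hval (sq x)), ← Finset.sum_mul,
      ← Finset.sum_fiberwise Finset.univ sq]
    set N : Subgroup.center S.P.K → ℕ := fun z => (Finset.univ.filter fun x => sq x = z).card with hN
    have hN1 : N 1 = S.q := by
      rw [← hZc]
      refine congrArg Finset.card (Finset.filter_congr fun x _ => ?_)
      exact ⟨fun h => S.mem_center_of_sq (congrArg Subtype.val h), fun h => Subtype.ext (S.center_sq h)⟩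
    have hNeq : ∀ z z' : Subgroup.center S.P.K, z ≠ 1 → z' ≠ 1 → N z = N z' := by
      intro z z' hz hz'
      obtain ⟨x, hx⟩ := S.conj_trans (fun h => hz (Subtype.ext h)) (S.center_sq z.2)
        (fun h => hz' (Subtype.ext h)) (S.center_sq z'.2)
      refine Finset.card_equiv (S.conj x).toEquiv fun y => ?_
      simp only [Finset.mem_filter, Finset.mem_univ, true_and, sq]
      rw [Subtype.ext_iff (a2 := z), Subtype.ext_iff (a2 := z')]
      show y * y = (z : S.P.K) ↔ S.conj x y * S.conj x y = (z' : S.P.K)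
      rw [← map_mul, ← hx, (S.conj x).injective.eq_iff]
    have htot : ∑ z, N z = S.q * S.q := by
      rw [← Finset.card_eq_sum_card_fiberwise fun x _ => Finset.mem_univ _, Finset.card_univ,
        ← Nat.card_eq_fintype_card, S.P.card_K]
      exact hh.trans (pow_two _)
    obtain ⟨z₀, hz₀⟩ : ∃ z₀ : Subgroup.center S.P.K, z₀ ≠ 1 :=
      Fintype.exists_ne_of_one_lt_card (by
        rw [← Nat.card_eq_fintype_card]; change 1 < S.q; omega) 1
    have hall : ∀ z, N z = S.q := by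
      have h1 : N z₀ = S.q := by
        rw [← Finset.add_sum_erase _ _ (Finset.mem_univ (1 : Subgroup.center S.P.K)), hN1,
          Finset.sum_congr rfl (fun z hz => hNeq z z₀ (Finset.ne_of_mem_erase hz) hz₀), Finset.sum_const,
          Finset.card_erase_of_mem (Finset.mem_univ _), Finset.card_univ, ← Nat.card_eq_fintype_card,
          smul_eq_mul] at htot
        change S.q + (S.q - 1) * N z₀ = _ at htot
        obtain ⟨r, hr⟩ : ∃ r, S.q = r + 1 := ⟨S.q - 1, by omega⟩
        rw [hr, Nat.add_sub_cancel] at htot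
        rw [hr]
        refine Nat.eq_of_mul_eq_mul_left (show 0 < r by omega) ?_
        linarith
      intro z
      by_cases hz : z = 1
      · rw [hz, hN1]
      · rw [hNeq z z₀ hz hz₀, h1]
    rw [Finset.sum_congr rfl (fun z _ => show
      ∑ x ∈ Finset.univ.filter (fun x => sq x = z), (ω (sq x) : ℂ) = (S.q : ℂ) * (ω z : ℂ) from by
        rw [Finset.sum_congr rfl (fun x hx => by rw [(Finset.mem_filter.mp hx).2]), Finset.sum_const,
          nsmul_eq_mul]
        exact congrArg (fun m : ℕ => (m : ℂ) * (ω z : ℂ)) (hall z)), ← Finset.mul_sum]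
    have hne : ((Units.coeHom ℂ).comp ω) ≠ 1 := fun e' => hω1 (MonoidHom.ext fun z => Units.ext (by
      simpa using DFunLike.congr_fun e' z))
    have h0 := sum_hom_units_eq_zero _ hne
    simp only [MonoidHom.comp_apply, Units.coeHom_apply] at h0
    rw [h0, mul_zero, zero_mul]
  have hK : (Nat.card S.P.K : ℂ) ≠ 0 := Nat.cast_ne_zero.mpr Nat.card_pos.ne'
  have hn2 : ∑ x : S.P.K, θ x * θ x = (Nat.card S.P.K : ℂ) := by
    rw [← sum_mul_conj_irr (χ := θ) ⟨n, ρ, hρ, e⟩]
    exact Finset.sum_congr rfl fun x _ => by rw [hreal]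
  rw [← e] at hsq hn2
  rcases frobenius_schur ρ with ⟨h1, -⟩ | ⟨ε, hε, -, h2, -⟩
  · exact hK (hn2.symm.trans h1)
  · rw [hsq] at h2
    rcases hε with rfl | rfl
    · exact hK (by rw [h2, one_mul])
    · exact hK (by linear_combination h2)

/-- Some exceptional character of the stabiliser is not of least degree. -/
theorem exists_large {δ : IrrCharacter S.P.A → ℕ}
    (hδ : ∀ Θ ∈ S.P.nontriv, (Θ : S.P.A → ℂ) 1 = (S.e : ℂ) * (δ Θ : ℂ)) : ∃ Θ ∈ S.P.nontriv, δ Θ ≠ 1 := by
  classical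
  by_contra hall
  push Not at hall
  obtain ⟨u, hu, v, hv, hne⟩ := S.na
  refine hne (congrArg (fun z : S.P.K => ((z : S.P.A) : G))
    ((commutative_iff_degree_one (G := S.P.K)).mpr (fun χ => ?_)
      ⟨⟨u, S.P.le hu⟩, Subgroup.mem_subgroupOf.mpr hu⟩ ⟨⟨v, S.P.le hv⟩, Subgroup.mem_subgroupOf.mpr hv⟩))
  by_cases h1 : (χ : S.P.K → ℂ) = fun _ => 1
  · rw [h1]
  have hmem := FrobKernelTI.isIrr_ind S.P.K S.P.centralizer_le S.P.K_lt_top χ.2 h1
  have hirr : IsIrrCharacter S.P.A (indFun S.P.K (χ : S.P.K → ℂ)) := hmem.1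
  have hn : (⟨_, hirr⟩ : IrrCharacter S.P.A) ∈ S.P.nontriv := S.P.mem_nontriv.mpr hmem
  have := hδ _ hn
  simp only at this
  rw [hall _ hn, indFun_apply_one, S.P.index_K] at this
  rw [mul_left_cancel₀ (Nat.cast_ne_zero.mpr Nat.card_pos.ne') this, Nat.cast_one]

end Hyp

end CfsgLib.SuzukiZT
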