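/-
The arithmetic behind the order of a Zassenhaus group with non-abelian kernel of two-power order.
-/
import Mathlib

set_option autoImplicit false
set_option maxHeartbeats 800000

namespace CfsgLib.SuzukiZT

theorem dvd_gcd_mul_gcd {M x y : ℤ} (h : M ∣ x * y) : M ∣ (Int.gcd M x : ℤ) * (Int.gcd M y : ℤ) := by
  rw [← Int.natAbs_dvd_natAbs, Int.natAbs_mul, Int.natAbs_natCast, Int.natAbs_natCast]
  have h' := Int.natAbs_dvd_natAbs.mpr h
  rw [Int.natAbs_mul] at h'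
  exact Nat.dvd_gcd_mul_gcd_iff_dvd_mul.mpr h'

/-- The divisibility leaves two possibilities for `r` when the kernel has order `q ^ 3`. -/
theorem cube_alternative {q a r : ℤ} (hq : 4 ≤ q) (heven : 2 ∣ q) (ha : 1 ≤ a) (ha2 : 2 * a ^ 2 ≤ q - 2)
    (hr2 : r ^ 2 ≤ q)
    (hdvd : (a * (q ^ 2 + q + 1) - r * q) ∣ (q ^ 3 + 1) * ((q + 1) * q * a)) :
    r = 2 * a ∨ r = -a := by
  by_contra hcon
  push Not at hcon
  set M := a * (q ^ 2 + q + 1) - r * q with hM
  have hcopA : IsCoprime ((q + 1) ^ 2) q := IsCoprime.pow_left ⟨1, -1, by ring⟩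
  have hcopB : IsCoprime (q ^ 2 - q + 1) q := ⟨1, 1 - q, by ring⟩
  have h1 : M ∣ ((q + 1) ^ 2 * (q ^ 2 - q + 1)) * (q * a) := by
    have e : (q + 1) ^ 2 * (q ^ 2 - q + 1) * (q * a) = (q ^ 3 + 1) * ((q + 1) * q * a) := by ring
    rw [e]; exact hdvd
  have h2 := dvd_gcd_mul_gcd h1
  -- the factors
  have hv : (Int.gcd M ((q + 1) ^ 2) : ℤ) ∣ r + a := by
    have hA := Int.gcd_dvd_right M ((q + 1) ^ 2)
    have h3 : (Int.gcd M ((q + 1) ^ 2) : ℤ) ∣ (r + a) * q := by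
      rw [show (r + a) * q = a * (q + 1) ^ 2 - M by rw [hM]; ring]
      exact dvd_sub (dvd_mul_of_dvd_right hA a) (Int.gcd_dvd_left M _)
    exact (hcopA.of_isCoprime_of_dvd_left hA).dvd_of_dvd_mul_right h3
  have hu : (Int.gcd M (q ^ 2 - q + 1) : ℤ) ∣ r - 2 * a := by
    have hB := Int.gcd_dvd_right M (q ^ 2 - q + 1)
    have h3 : (Int.gcd M (q ^ 2 - q + 1) : ℤ) ∣ (r - 2 * a) * q := by
      rw [show (r - 2 * a) * q = a * (q ^ 2 - q + 1) - M by rw [hM]; ring]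
      exact dvd_sub (dvd_mul_of_dvd_right hB a) (Int.gcd_dvd_left M _)
    exact (hcopB.of_isCoprime_of_dvd_left hB).dvd_of_dvd_mul_right h3
  have hq' : (Int.gcd M q : ℤ) ∣ a := by
    rw [show a = M - q * (a * q + a - r) by rw [hM]; ring]
    exact dvd_sub (Int.gcd_dvd_left M q) (dvd_mul_of_dvd_left (Int.gcd_dvd_right M q) _)
  have h4 : M ∣ ((r + a) * (r - 2 * a)) * (a * a) := by
    refine h2.trans (mul_dvd_mul ?_ ?_)
    · refine dvd_trans ?_ (mul_dvd_mul hv hu)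
      exact Int.natCast_dvd_natCast.mpr (Nat.gcd_mul_right_dvd_mul_gcd M.natAbs ((q + 1) ^ 2).natAbs (q ^ 2 - q + 1).natAbs
        |> fun h => by simpa only [Int.gcd, Int.natAbs_mul] using h)
    · refine dvd_trans ?_ (mul_dvd_mul hq' (Int.gcd_dvd_right M a))
      exact Int.natCast_dvd_natCast.mpr (Nat.gcd_mul_right_dvd_mul_gcd M.natAbs q.natAbs a.natAbs
        |> fun h => by simpa only [Int.gcd, Int.natAbs_mul] using h)
  have hne : ((r + a) * (r - 2 * a)) * (a * a) ≠ 0 := by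
    refine mul_ne_zero (mul_ne_zero ?_ ?_) (mul_ne_zero (by omega) (by omega))
    · intro e; exact hcon.2 (by omega)
    · intro e; exact hcon.1 (by omega)
  have h5 := Int.le_of_dvd (abs_pos.mpr hne) ((dvd_abs _ _).mpr h4)
  set R := |r| with hR
  have hR0 : 0 ≤ R := abs_nonneg r
  have hRr : R ^ 2 = r ^ 2 := sq_abs r
  have hrR : r * q ≤ R * q := mul_le_mul_of_nonneg_right (le_abs_self r) (by omega)
  have hbd : |(r + a) * (r - 2 * a)| ≤ r ^ 2 + R * a + 2 * a ^ 2 := by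
    rw [abs_le]
    have h6 : r * a ≤ R * a := mul_le_mul_of_nonneg_right (le_abs_self r) (by omega)
    have h7 : -(R * a) ≤ r * a := by
      have := mul_le_mul_of_nonneg_right (neg_abs_le r) (show (0 : ℤ) ≤ a by omega)
      linarith
    constructor <;> nlinarith
  rw [abs_mul, abs_of_nonneg (mul_self_nonneg a)] at h5
  have h8 : a * (q ^ 2 + q + 1) - R * q ≤ (r ^ 2 + R * a + 2 * a ^ 2) * (a * a) := by
    calc a * (q ^ 2 + q + 1) - R * q ≤ M := by rw [hM]; linarith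
      _ ≤ _ := h5.trans (mul_le_mul_of_nonneg_right hbd (mul_self_nonneg a))
  have hRq : R ^ 2 ≤ q := hRr ▸ hr2
  rw [← hRr] at h8
  have h9 : R * a ≤ q := by nlinarith [sq_nonneg (R - a)]
  have h10 : (R ^ 2 + R * a + 2 * a ^ 2) * (a * a) ≤ 3 * q * (a * a) :=
    mul_le_mul_of_nonneg_right (by nlinarith) (mul_self_nonneg a)
  rcases lt_or_ge q 10 with hsmall | hbig
  · have ha1 : a = 1 := by nlinarith
    subst ha1
    have hR3 : R ≤ 3 := by nlinarith
    interval_cases q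
    all_goals interval_cases R
    all_goals omega
  · have h11 : 3 * a ≤ q - R := by
      nlinarith [sq_nonneg (3 * a - q + R), sq_nonneg (a - R)]
    have h12 : R * q ≤ R * q * a := le_mul_of_one_le_right (mul_nonneg hR0 (by omega)) ha
    have h13 : 3 * a * (q * a) ≤ (q - R) * (q * a) := mul_le_mul_of_nonneg_right h11 (mul_nonneg (by omega) (by omega))
    nlinarith

theorem three_dvd_of_sum {ι : Type*} (s : Finset ι) (a r : ι → ℤ) (q : ℤ)
    (h : ∀ i ∈ s, a i = 0 ∨ r i = 2 * a i ∨ r i = -a i) (h2 : 2 * ∑ i ∈ s, a i ^ 2 = q - 2)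
    (h1 : ∑ i ∈ s, a i * r i = 1) : (3 : ℤ) ∣ q := by
  have h3 : (3 : ℤ) ∣ ∑ i ∈ s, (a i * r i + a i ^ 2) := Finset.dvd_sum fun i hi => by
    rcases h i hi with e | e | e
    · rw [e]; simp
    · rw [e]; exact ⟨a i ^ 2, by ring⟩
    · rw [e]; exact ⟨0, by ring⟩
  rw [Finset.sum_add_distrib, h1] at h3
  obtain ⟨k, hk⟩ := h3
  exact ⟨2 * k, by linarith⟩

theorem not_three_dvd_two_pow (n : ℕ) : ¬ (3 : ℤ) ∣ 2 ^ n := by
  intro h
  have := Int.prime_three.dvd_of_dvd_pow h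
  norm_num at this

theorem sq_ne_half_four_pow {i : ℕ} (hi : 1 ≤ i) {a w : ℤ} (ha : a ≠ 0) : 2 * a ^ 2 ≠ 4 ^ i * w ^ 2 := by
  intro h
  have hw : w ≠ 0 := fun e => by rw [e] at h; exact ha (by simpa using h)
  have h' : 2 * a.natAbs ^ 2 = 2 ^ (2 * i) * w.natAbs ^ 2 := by
    have := congrArg Int.natAbs h
    rw [pow_mul]
    simpa [Int.natAbs_mul, Int.natAbs_pow] using this
  haveI : Fact (Nat.Prime 2) := ⟨Nat.prime_two⟩
  have hv := congrArg (padicValNat 2) h'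
  rw [padicValNat.mul (by norm_num) (pow_ne_zero _ (Int.natAbs_ne_zero.mpr ha)),
    padicValNat.mul (pow_ne_zero _ (by norm_num)) (pow_ne_zero _ (Int.natAbs_ne_zero.mpr hw)),
    padicValNat.pow, padicValNat.pow, padicValNat.pow, padicValNat.self (by norm_num)] at hv
  omega

/-- In the even case a character with `a ≠ 0` has `a = 1` and a large `w`. -/
theorem square_large {q R d a w : ℤ} {i k : ℕ} (hi : 1 ≤ i) (hR : R = 4 ^ i) (hk : d = 2 ^ k) (hk1 : 1 ≤ k)
    (hq : q = R * d ^ 2) (ha : 1 ≤ a) (ha2 : 2 * a ^ 2 ≤ q) (hw : w ^ 2 ≤ d ^ 2 + 1)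
    (hMpos : 0 < a * (q + 1) + R * d * w)
    (hdvd : (a * (q + 1) + R * d * w) ∣ (q ^ 2 + 1) * (q * a)) :
    a = 1 ∧ d ^ 2 + 1 < 2 * w ^ 2 := by
  set M := a * (q + 1) + R * d * w with hM
  have hd2 : 2 ≤ d := by rw [hk]; exact le_self_pow₀ (by norm_num) (by omega)
  have hR4 : 4 ≤ R := by rw [hR]; exact le_self_pow₀ (by norm_num) (by omega)
  have hq16 : 16 ≤ q := by rw [hq]; nlinarith
  -- the power of two in `M`
  obtain ⟨j, a', ha', haj⟩ : ∃ (j : ℕ) (a' : ℤ), ¬ 2 ∣ a' ∧ a = 2 ^ j * a' := by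
    obtain ⟨j, m, hm, e⟩ := Nat.exists_eq_pow_mul_and_not_dvd (n := a.natAbs) (by omega) 2 (by norm_num)
    refine ⟨j, m, fun h => hm (Int.natCast_dvd_natCast.mp h), ?_⟩
    rw [← Int.natAbs_of_nonneg (show (0 : ℤ) ≤ a by omega), e]
    push_cast; ring
  have ha'0 : 1 ≤ a' := by
    have h2j : (0 : ℤ) < 2 ^ j := by positivity
    nlinarith
  have hRd : R * d = 2 ^ (2 * i + k) := by rw [hR, hk, pow_add, pow_mul]; norm_num
  have hjlt : j < 2 * i + k := by
    by_contra hge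
    push Not at hge
    have h1 : R * d ≤ a := by
      rw [hRd, haj]
      calc (2 : ℤ) ^ (2 * i + k) ≤ 2 ^ j := pow_le_pow_right₀ (by norm_num) hge
        _ ≤ 2 ^ j * a' := le_mul_of_one_le_right (by positivity) ha'0
    have h2 : (R * d) * (R * d) ≤ a * a := mul_le_mul h1 h1 (by positivity) (by omega)
    have h3 : 0 < R * d ^ 2 := by positivity
    have h4 : R * d ^ 2 * 1 < R * d ^ 2 * (2 * R) := mul_lt_mul_of_pos_left (by omega) h3
    rw [hq] at ha2
    linarith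
  obtain ⟨t, ht⟩ : ∃ t : ℕ, 2 * i + k = j + (t + 1) := ⟨2 * i + k - j - 1, by omega⟩
  set M' := a' * (q + 1) + 2 ^ (t + 1) * w with hM'
  have hMM : M = 2 ^ j * M' := by
    rw [hM, hM', hRd, ht, haj, pow_add]; ring
  have hqe : (2 : ℤ) ∣ q := by
    rw [hq, hR]
    exact dvd_mul_of_dvd_left ((dvd_pow (by norm_num) (by omega) : (2 : ℤ) ∣ 4 ^ i)) _
  have hM'odd : ¬ (2 : ℤ) ∣ M' := by
    intro h
    have h1 : (2 : ℤ) ∣ 2 ^ (t + 1) * w := dvd_mul_of_dvd_left (dvd_pow_self 2 (by omega)) _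
    have h2 : (2 : ℤ) ∣ a' * (q + 1) := by
      have := dvd_sub h h1
      rwa [hM', add_sub_cancel_right] at this
    exact ha' (by
      have h3 := dvd_sub h2 (dvd_mul_of_dvd_right hqe a')
      rwa [mul_add, mul_one, add_sub_cancel_left] at h3)
  have hqpow : q = 2 ^ (2 * i + 2 * k) := by rw [hq, hR, hk, pow_add, pow_mul, ← pow_mul, mul_comm k 2]; norm_num
  have hcop : IsCoprime M' q := by
    rw [hqpow]
    exact IsCoprime.pow_right ((Int.prime_two.coprime_iff_not_dvd.mpr hM'odd).symm)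
  have h1 : M' ∣ (q ^ 2 + 1) * a' := by
    have h2 : M' * 2 ^ j ∣ ((q ^ 2 + 1) * a' * q) * 2 ^ j := by
      rw [mul_comm M', ← hMM]
      refine hdvd.trans (dvd_of_eq ?_)
      rw [haj]; ring
    exact hcop.dvd_of_dvd_mul_right (Int.dvd_of_mul_dvd_mul_right (by positivity) h2)
  have h3 : M ∣ (q ^ 2 + 1) * a := by
    rw [hMM, haj, ← mul_assoc, mul_comm ((q ^ 2 + 1)) ((2 : ℤ) ^ j), mul_assoc]
    exact mul_dvd_mul_left _ h1
  have hg := Int.gcd_dvd_right M (q ^ 2 + 1)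
  have hgM := Int.gcd_dvd_left M (q ^ 2 + 1)
  set g : ℤ := (Int.gcd M (q ^ 2 + 1) : ℤ) with hgdef
  have h4 : M ∣ g * a := (dvd_gcd_mul_gcd h3).trans (mul_dvd_mul_left _ (Int.gcd_dvd_right M a))
  have hgodd : ¬ (2 : ℤ) ∣ g := by
    intro h
    have h' := h.trans hg
    have h'' : (2 : ℤ) ∣ q ^ 2 := dvd_pow hqe (by norm_num)
    have := dvd_sub h' h''
    rw [add_sub_cancel_left] at this
    norm_num at this
  have h5 : g ∣ (2 * a ^ 2 - R * w ^ 2) * q := by
    have e : (2 * a ^ 2 - R * w ^ 2) * q = a ^ 2 * ((q + 1) ^ 2 - (q ^ 2 + 1)) - R * q * w ^ 2 := by ring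
    have e2 : (R * d * w) ^ 2 = R * q * w ^ 2 := by rw [hq]; ring
    have e3 : (2 * a ^ 2 - R * w ^ 2) * q = (a * (q + 1) - R * d * w) * M - a ^ 2 * (q ^ 2 + 1) := by
      rw [e, ← e2, hM]; ring
    rw [e3]
    exact dvd_sub (dvd_mul_of_dvd_right hgM _) (dvd_mul_of_dvd_right hg _)
  have hgq : IsCoprime g q := by
    rw [hqpow]
    exact IsCoprime.pow_right ((Int.prime_two.coprime_iff_not_dvd.mpr hgodd).symm)
  have h6 := hgq.dvd_of_dvd_mul_right h5
  have hne : 2 * a ^ 2 - R * w ^ 2 ≠ 0 := by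
    rw [hR]
    exact sub_ne_zero.mpr (sq_ne_half_four_pow hi (by omega))
  obtain ⟨c, hc⟩ := h6
  have hc0 : c ≠ 0 := fun e => hne (by rw [hc, e, mul_zero])
  have hceven : (2 : ℤ) ∣ c := by
    have h7 : (2 : ℤ) ∣ g * c := by
      rw [← hc]
      refine dvd_sub (dvd_mul_right _ _) (dvd_mul_of_dvd_left ?_ _)
      rw [hR]
      exact dvd_pow (by norm_num) (by omega)
    exact (Int.prime_two.dvd_or_dvd h7).resolve_left hgodd
  have hc2 : 2 ≤ |c| := by
    obtain ⟨c', rfl⟩ := hceven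
    have : c' ≠ 0 := fun e => hc0 (by rw [e, mul_zero])
    rw [abs_mul]
    have := abs_pos.mpr this
    norm_num
    omega
  have hg0 : 0 ≤ g := by rw [hgdef]; exact Int.natCast_nonneg _
  have hga : 0 < g * a := by
    have : g ≠ 0 := fun e => hne (by rw [hc, e, zero_mul])
    exact mul_pos (lt_of_le_of_ne hg0 (Ne.symm this)) (by omega)
  have h8 := Int.le_of_dvd hga h4
  have h9 : 2 * g ≤ |2 * a ^ 2 - R * w ^ 2| := by
    rw [hc, abs_mul, abs_of_nonneg hg0, mul_comm (2 : ℤ)]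
    exact mul_le_mul_of_nonneg_left hc2 hg0
  set W := |w| with hW
  have hW0 : 0 ≤ W := abs_nonneg w
  have hWw : W ^ 2 = w ^ 2 := sq_abs w
  have hWd : W ≤ d := by
    by_contra hlt
    push Not at hlt
    have : (d + 1) ^ 2 ≤ W ^ 2 := pow_le_pow_left₀ (by omega) (by omega) 2
    nlinarith
  have h10 : 2 * a * (q + 1) - 2 * R * d * W ≤ a * |2 * a ^ 2 - R * w ^ 2| := by
    have hRd0 : 0 ≤ R * d := by nlinarith
    have : -(R * d * W) ≤ R * d * w := by
      have := mul_le_mul_of_nonneg_left (neg_abs_le w) hRd0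
      linarith
    have h11 : 2 * M ≤ 2 * g * a := by linarith
    have h12 : 2 * g * a ≤ |2 * a ^ 2 - R * w ^ 2| * a := mul_le_mul_of_nonneg_right h9 (by omega)
    rw [hM] at h11
    linarith
  rcases le_or_gt (R * w ^ 2) (2 * a ^ 2) with hcase | hcase
  · exfalso
    rw [abs_of_nonneg (by linarith)] at h10
    have hs2 : (R * d * W) ^ 2 ≤ 2 * q * a ^ 2 := by
      calc (R * d * W) ^ 2 = q * (R * w ^ 2) := by rw [hq, ← hWw]; ring
        _ ≤ q * (2 * a ^ 2) := mul_le_mul_of_nonneg_left hcase (by omega)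
        _ = _ := by ring
    set s := R * d * W with hs
    have hs' : 2 * R * d * W = 2 * s := by rw [hs]; ring
    rw [hs'] at h10
    have hRw : 0 ≤ R * w ^ 2 := by positivity
    have h13 : a * (q + 2) ≤ 2 * s := by
      have e1 : a * (2 * a ^ 2) ≤ a * q := mul_le_mul_of_nonneg_left ha2 (by omega)
      have e2 : 0 ≤ a * (R * w ^ 2) := mul_nonneg (by omega) hRw
      linarith
    have h14 : (a * (q + 2)) ^ 2 ≤ (2 * s) ^ 2 :=
      pow_le_pow_left₀ (mul_nonneg (by omega) (by omega)) h13 2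
    have h15 : a ^ 2 * (q + 2) ^ 2 ≤ a ^ 2 * (8 * q) := by linarith
    have h16 := le_of_mul_le_mul_left h15 (by positivity)
    have h17 : 0 < (q - 2) ^ 2 := pow_pos (by omega) 2
    linarith
  · rw [abs_of_nonpos (by linarith), neg_sub, ← hWw] at h10
    have h13 : R * (a * (2 * d ^ 2 - W ^ 2) - 2 * d * W) < R * 0 := by
      rw [mul_zero]
      have : (0 : ℤ) < a ^ 3 := by positivity
      rw [hq] at h10
      linarith
    have h14 := lt_of_mul_lt_mul_left h13 (by omega)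
    have hWW : W * W ≤ d * d := mul_le_mul hWd hWd hW0 (by omega)
    have hWd' : W * d ≤ d * d := mul_le_mul_of_nonneg_right hWd (by omega)
    have ha1 : a = 1 := by
      by_contra hne1
      have : 2 * (2 * d ^ 2 - W ^ 2) ≤ a * (2 * d ^ 2 - W ^ 2) :=
        mul_le_mul_of_nonneg_right (by omega) (by linarith [sq_nonneg d])
      linarith
    refine ⟨ha1, ?_⟩
    subst ha1
    by_contra hle
    push Not at hle
    rw [← hWw] at hle
    have h15 : 3 * d ^ 2 + 1 ≤ 4 * (W * d) := by linarith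
    have h16 : (3 * d ^ 2 + 1) ^ 2 ≤ (4 * (W * d)) ^ 2 := pow_le_pow_left₀ (by positivity) h15 2
    have h17 : 8 * d ^ 2 * (2 * W ^ 2) ≤ 8 * d ^ 2 * (d ^ 2 + 1) := mul_le_mul_of_nonneg_left hle (by positivity)
    have h18 : (d ^ 2 - 1) ^ 2 ≤ 0 := by linarith
    have h19 : 3 ≤ d ^ 2 - 1 := by linarith [mul_le_mul hd2 hd2 (by norm_num) (by omega : (0:ℤ) ≤ d)]
    have h20 := pow_le_pow_left₀ (by norm_num) h19 2
    linarith

end CfsgLib.SuzukiZT
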