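/-
The kernel cannot have order the cube of the order of its centre.
-/
import Cfsg.Agent.Lib.SuzukiZT.Family
import Cfsg.Agent.Lib.SuzukiZT.Arith
import Mathlib.Algebra.Order.BigOperators.Ring.Finset

set_option autoImplicit false
set_option linter.unusedSectionVars false
set_option linter.style.haveILetI false
set_option maxHeartbeats 1600000

namespace CfsgLib.SuzukiZT

open MulAction Cfsg CfsgLib.CharTheory CfsgLib.ZassenhausDegree

universe u v

variable {G : Type u} {Ω : Type v} [Group G] [Fintype G] [MulAction G Ω] [Fintype Ω]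

namespace Hyp

variable (S : Hyp G Ω)

theorem h_ne_cube : S.h ≠ S.q ^ 3 := by
  classical
  intro hh
  obtain ⟨s, hs, hs2⟩ := S.exists_involution
  obtain ⟨δ, T₁, T₂, hun, hdis, hδ, hT₁, hT₂, hm1, hS2⟩ := S.exists_types hs hs2
  have hδ' := fun Θ hΘ => (hδ Θ hΘ).2.2
  obtain ⟨T₀, hout, hgram, hval⟩ := S.exists_gram hδ'
  have hq4 := S.four_le_q
  have he : S.e = S.q - 1 := by have := S.q_eq; omega
  have hsub₁ : T₁ ⊆ S.P.nontriv := hun ▸ Finset.subset_union_left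
  have hsub₂ : T₂ ⊆ S.P.nontriv := hun ▸ Finset.subset_union_right
  have hm : T₁.card = S.q + 1 := by
    rw [hh, pow_succ' S.q 2] at hm1
    have h1 := Nat.eq_of_mul_eq_mul_left (by omega) hm1
    obtain ⟨r, hr⟩ : ∃ r, S.q = r + 1 := ⟨S.q - 1, by omega⟩
    rw [he, hr, Nat.add_sub_cancel] at h1
    rw [hr]
    refine Nat.eq_of_mul_eq_mul_left (show 0 < r by omega) ?_
    linarith
  have hsq : ∑ Θ ∈ T₂, δ Θ ^ 2 = S.q ^ 2 := by
    rw [hh, pow_succ' S.q 2] at hS2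
    exact Nat.eq_of_mul_eq_mul_left (by omega) hS2
  obtain ⟨ε, μ, β, hε, hμi, hμT, hb⟩ := S.exists_family hδ' hsub₁ (fun Θ hΘ => (hT₁ Θ hΘ).1) (by omega) hout
  set q : ℤ := (S.q : ℤ) with hqdef
  have hq4' : 4 ≤ q := by rw [hqdef]; exact_mod_cast hq4
  have hε2 : ε * ε = 1 := by rcases hε with rfl | rfl <;> rfl
  have hd1 : ∀ Θ ∈ T₁, (δ Θ : ℤ) = 1 := fun Θ hΘ => by rw [(hT₁ Θ hΘ).1]; rfl
  have hGij : ∀ i ∈ T₁, ∀ j ∈ T₁, 2 * (∑ φ ∈ T₀, β φ * β φ + ε * β (μ i) + ε * β (μ j)) = q - 2 := by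
    intro i hi j hj
    have h := hgram i (hsub₁ hi) j (hsub₁ hj)
    simp only [hb _ i hi, hd1 i hi, hd1 j hj] at h
    rw [sum_shift (hμT i hi), Finset.sum_congr rfl (fun φ _ => mul_comm (β φ) _), hb (μ i) j hj,
      Finset.sum_congr rfl (fun φ _ => congrArg (· * β φ) (hb φ j hj)), sum_shift (hμT j hj)] at h
    by_cases e : i = j
    · subst e
      simp only [if_true] at h
      linear_combination h - 2 * hε2
    · simp only [if_neg e, if_neg (fun h' => e (hμi hi hj h'))] at h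
      linear_combination h
  obtain ⟨i₀, hi₀⟩ := Finset.card_pos.mp (show 0 < T₁.card by omega)
  set A := β (μ i₀) with hA
  have hAi : ∀ i ∈ T₁, β (μ i) = A := fun i hi => by
    have h1 := hGij i hi i₀ hi₀
    have h2 := hGij i₀ hi₀ i₀ hi₀
    rw [← hA] at h1 h2
    have h3 : ε * β (μ i) = ε * A := by linarith
    rcases hε with rfl | rfl <;> linarith
  set N := T₀ \ T₁.image μ with hN
  have hsplit : ∀ f : IrrCharacter G → ℤ, ∑ φ ∈ T₀, f φ = ∑ φ ∈ N, f φ + ∑ i ∈ T₁, f (μ i) := fun f => by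
    rw [hN, ← Finset.sum_image hμi, Finset.sum_sdiff]
    intro φ hφ
    obtain ⟨i, hi, rfl⟩ := Finset.mem_image.mp hφ
    exact hμT i hi
  have hcardq : (T₁.card : ℤ) = q + 1 := by rw [hm, hqdef]; push_cast; rfl
  have hA0 : A = 0 := by
    obtain ⟨j, hj, hji⟩ := T₁.exists_mem_ne (by omega) i₀
    have h1 := hb (μ i₀) j hj
    rw [if_neg (fun e => hji (hμi hj hi₀ e.symm)), add_zero] at h1
    have hApos : 0 ≤ A := by rw [hA, ← h1]; exact Int.natCast_nonneg _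
    have h2 := hGij i₀ hi₀ i₀ hi₀
    rw [hsplit, Finset.sum_congr (s₁ := T₁) rfl (fun i hi => by rw [hAi i hi]), Finset.sum_const,
      nsmul_eq_mul, hcardq, ← hA] at h2
    have h3 : 0 ≤ ∑ φ ∈ N, β φ * β φ := Finset.sum_nonneg fun φ _ => mul_self_nonneg _
    by_contra hne
    have hA1 : 1 ≤ A := by omega
    have h4 : (q + 1) * A ≤ (q + 1) * (A * A) := mul_le_mul_of_nonneg_left (le_mul_of_one_le_left hApos hA1) (by omega)
    have h5 : -A ≤ ε * A := by rcases hε with rfl | rfl <;> linarith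
    have h6 : q ≤ q * A := le_mul_of_one_le_right (by omega) hA1
    have h7 : q - 1 ≤ (q - 1) * A := le_mul_of_one_le_right (by omega) hA1
    linarith
  have hε1 : ε = 1 := by
    have h1 := hb (μ i₀) i₀ hi₀
    rw [if_pos rfl, ← hA, hA0, zero_add] at h1
    rcases hε with e | e
    · exact e
    · omega
  subst hε1
  have hNb : ∀ φ ∈ N, ∀ i ∈ T₁, (S.b φ i : ℤ) = β φ := fun φ hφ i hi => by
    rw [hb φ i hi, if_neg (fun e => (Finset.mem_sdiff.mp hφ).2 (Finset.mem_image.mpr ⟨i, hi, e.symm⟩)), add_zero]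
  have hbμ : ∀ i ∈ T₁, ∀ j ∈ T₁, (S.b (μ i) j : ℤ) = if j = i then 1 else 0 := fun i hi j hj => by
    rw [hb (μ i) j hj, hAi i hi, hA0, zero_add]
    by_cases e : j = i
    · rw [if_pos e, if_pos (e ▸ rfl)]
    · rw [if_neg e, if_neg (fun h => e (hμi hj hi h.symm))]
  have hNsq : 2 * ∑ φ ∈ N, β φ * β φ = q - 2 := by
    have h1 := hGij i₀ hi₀ i₀ hi₀
    rw [hsplit, Finset.sum_eq_zero (s := T₁) (fun i hi => by rw [hAi i hi, hA0, mul_zero]), ← hA, hA0] at h1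
    linarith
  have hz : ∀ ρ ∈ T₂, ∀ i ∈ T₁,
      2 * (∑ φ ∈ N, β φ * (S.b φ ρ : ℤ) + (S.b (μ i) ρ : ℤ)) = (q - 2) * (δ ρ : ℤ) := by
    intro ρ hρ i hi
    have h := hgram i (hsub₁ hi) ρ (hsub₂ hρ)
    have hne : i ≠ ρ := fun e => Finset.disjoint_left.mp hdis hi (e ▸ hρ)
    simp only [hb _ i hi, hd1 i hi, if_neg hne, mul_zero, zero_add, one_mul] at h
    rw [sum_shift (hμT i hi), hsplit, Finset.sum_eq_zero (s := T₁) (fun j hj => by rw [hAi j hj, hA0, zero_mul]),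
      add_zero, one_mul] at h
    exact h
  obtain ⟨ρ, hρ, hρ0⟩ : ∃ ρ ∈ T₂, S.b (μ i₀) ρ ≠ 0 := by
    by_contra hall
    push Not at hall
    obtain ⟨hne, hv⟩ := hval _ (hμT i₀ hi₀)
    have hv' : ∀ x : S.P.A, (μ i₀ : G → ℂ) x = (i₀ : S.P.A → ℂ) x := fun x => by
      rw [hv x, hun, Finset.sum_union hdis,
        Finset.sum_eq_zero (s := T₂) (fun Θ hΘ => by rw [hall Θ hΘ, Nat.cast_zero, zero_mul]), add_zero,
        Finset.sum_eq_single_of_mem i₀ hi₀ (fun j hj hne' => by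
          have := hbμ i₀ hi₀ j hj
          rw [if_neg hne'] at this
          rw [show S.b (μ i₀) j = 0 by exact_mod_cast this, Nat.cast_zero, zero_mul])]
      have := hbμ i₀ hi₀ i₀ hi₀
      rw [if_pos rfl] at this
      rw [show S.b (μ i₀) i₀ = 1 by exact_mod_cast this, Nat.cast_one, one_mul]
    refine S.false_of_kernel hs hne ?_
    have h1 := hv' 1
    rw [OneMemClass.coe_one] at h1
    rw [hv', (hT₁ i₀ hi₀).2, h1, hδ' i₀ (hsub₁ hi₀), (hT₁ i₀ hi₀).1, Nat.cast_one, mul_one]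
  set z : ℤ := (S.b (μ i₀) ρ : ℤ) with hzdef
  have hz1 : 1 ≤ z := by rw [hzdef]; exact_mod_cast Nat.one_le_iff_ne_zero.mpr hρ0
  have hzall : ∀ i ∈ T₁, (S.b (μ i) ρ : ℤ) = z := fun i hi => by
    have h1 := hz ρ hρ i hi
    have h2 := hz ρ hρ i₀ hi₀
    linarith
  have hNab := hz ρ hρ i₀ hi₀
  rw [← hzdef] at hNab
  have hNbb : 2 * (∑ φ ∈ N, (S.b φ ρ : ℤ) * S.b φ ρ + (q + 1) * (z * z)) =
      2 + (q - 2) * ((δ ρ : ℤ) * δ ρ) := by
    have h := hgram ρ (hsub₂ hρ) ρ (hsub₂ hρ)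
    rw [hsplit, Finset.sum_congr (s₁ := T₁) rfl (fun i hi => by rw [hzall i hi]), Finset.sum_const,
      nsmul_eq_mul, hcardq, if_pos rfl, mul_one] at h
    exact h
  have hCS := Finset.sum_mul_sq_le_sq_mul_sq N β (fun φ => (S.b φ ρ : ℤ))
  simp only [pow_two] at hCS
  set Saa := ∑ φ ∈ N, β φ * β φ with hSaa
  set Sab := ∑ φ ∈ N, β φ * (S.b φ ρ : ℤ) with hSab
  set Sbb := ∑ φ ∈ N, (S.b φ ρ : ℤ) * S.b φ ρ with hSbb
  set d : ℤ := (δ ρ : ℤ) with hd
  have hd0 : 0 < d := by rw [hd]; exact_mod_cast (hδ ρ (hsub₂ hρ)).1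
  have hkey : (q + 1) * z ≤ 2 * d := by
    have h1 : (2 * Sab) * (2 * Sab) ≤ (q - 2) * (2 * Sbb) := by
      rw [← hNsq]; linarith
    have h2 : 2 * Sab = (q - 2) * d - 2 * z := by linarith
    have h3 : 2 * Sbb = 2 + (q - 2) * (d * d) - 2 * (q + 1) * (z * z) := by linarith
    rw [h2, h3] at h1
    have h4 : (q - 2) * ((q + 1) * (z * z) - 1 - 2 * d * z) ≤ -2 * (z * z) := by linarith
    have h5 : (q + 1) * (z * z) - 1 - 2 * d * z < 0 := by
      by_contra hlt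
      push Not at hlt
      have := mul_nonneg (show 0 ≤ q - 2 by omega) hlt
      have : 1 ≤ z * z := one_le_mul_of_one_le_of_one_le hz1 hz1
      linarith
    have h6 : z * ((q + 1) * z) ≤ z * (2 * d) := by
      have : (q + 1) * (z * z) - 1 - 2 * d * z + 1 ≤ 0 := Int.add_one_le_of_lt h5
      linarith
    exact le_of_mul_le_mul_left h6 (by omega)
  have hdle : δ ρ ≤ S.q := by
    have h1 : δ ρ ^ 2 ≤ S.q ^ 2 := hsq ▸ Finset.single_le_sum (fun i _ => Nat.zero_le (δ i ^ 2)) hρ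
    exact (Nat.pow_le_pow_iff_left (by norm_num)).mp h1
  have hqd : δ ρ = S.q := by
    obtain ⟨j, hj⟩ := (hδ ρ (hsub₂ hρ)).2.1
    obtain ⟨n, -, hn⟩ := S.q_pow
    have hgt : S.q < 2 * δ ρ := by
      have h1 : q + 1 ≤ (q + 1) * z := le_mul_of_one_le_right (by omega) hz1
      have : q < 2 * d := by linarith
      rw [hqdef, hd] at this
      exact_mod_cast this
    rw [hj, hn, ← pow_succ'] at hgt
    rw [hj, hn] at hdle
    have := (Nat.pow_lt_pow_iff_right (by norm_num)).mp hgt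
    have := (Nat.pow_le_pow_iff_right (by norm_num)).mp hdle
    rw [hj, hn]
    congr 1
    omega
  have hdq : d = q := by rw [hd, hqdef, hqd]
  have hT2s : T₂ = {ρ} := by
    rw [Finset.eq_singleton_iff_unique_mem]
    refine ⟨hρ, fun Θ hΘ => ?_⟩
    by_contra hne
    have h1 : δ ρ ^ 2 + δ Θ ^ 2 ≤ S.q ^ 2 := by
      rw [← hsq, ← Finset.sum_pair (f := fun i => δ i ^ 2) (Ne.symm hne)]
      exact Finset.sum_le_sum_of_subset (by simp [Finset.insert_subset_iff, hρ, hΘ])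
    rw [hqd] at h1
    have := Nat.one_le_pow 2 _ (hδ Θ (hsub₂ hΘ)).1
    omega
  have hzv : z = 1 := by
    rw [hdq] at hkey
    by_contra hne
    have : (q + 1) * 2 ≤ (q + 1) * z := mul_le_mul_of_nonneg_left (by omega) (by omega)
    linarith
  rw [hzv, hdq] at hNab hNbb
  set r : IrrCharacter G → ℤ := fun φ => q * β φ - S.b φ ρ with hr
  have hr1 : ∑ φ ∈ N, β φ * r φ = 1 := by
    have e : ∀ φ, β φ * r φ = q * (β φ * β φ) - β φ * (S.b φ ρ : ℤ) := fun φ => by rw [hr]; ring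
    rw [Finset.sum_congr rfl fun φ _ => e φ, Finset.sum_sub_distrib, ← Finset.mul_sum]
    have : 2 * (q * Saa - Sab) = 2 * 1 := by linear_combination q * hNsq - hNab
    linarith
  have hr2 : ∑ φ ∈ N, r φ * r φ = q := by
    have e : ∀ φ, r φ * r φ = q * q * (β φ * β φ) - 2 * q * (β φ * (S.b φ ρ : ℤ)) +
        (S.b φ ρ : ℤ) * S.b φ ρ := fun φ => by rw [hr]; ring
    rw [Finset.sum_congr rfl fun φ _ => e φ, Finset.sum_add_distrib, Finset.sum_sub_distrib, ← Finset.mul_sum,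
      ← Finset.mul_sum]
    have : 2 * (q * q * Saa - 2 * q * Sab + Sbb) = 2 * q := by
      linear_combination (q * q) * hNsq - (2 * q) * hNab + hNbb
    linarith
  obtain ⟨n, -, hn⟩ := S.q_pow
  refine not_three_dvd_two_pow n ?_
  rw [show (2 : ℤ) ^ n = q by rw [hqdef, hn]; push_cast; rfl]
  refine three_dvd_of_sum N β r q (fun φ hφ => ?_)
    (by rw [← hNsq]; exact congrArg (2 * ·) (Finset.sum_congr rfl fun φ _ => pow_two _)) hr1
  have hφT : φ ∈ T₀ := (Finset.mem_sdiff.mp hφ).1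
  have ha0 : 0 ≤ β φ := by rw [← hNb φ hφ i₀ hi₀]; exact Int.natCast_nonneg _
  by_cases ha : β φ = 0
  · exact Or.inl ha
  right
  have hv : ∀ x : S.P.A, (φ : G → ℂ) x = (β φ : ℂ) * (∑ i ∈ T₁, (i : S.P.A → ℂ) x) +
      (S.b φ ρ : ℂ) * (ρ : S.P.A → ℂ) x := fun x => by
    rw [(hval φ hφT).2 x, hun, Finset.sum_union hdis, hT2s, Finset.sum_singleton, Finset.mul_sum]
    congr 1
    refine Finset.sum_congr rfl fun i hi => ?_
    rw [← hNb φ hφ i hi, Int.cast_natCast]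
  have heC : (S.e : ℂ) = (q : ℂ) - 1 := by
    rw [hqdef, Int.cast_natCast, S.q_eq]; push_cast; ring
  have hcardC : (T₁.card : ℂ) = (q : ℂ) + 1 := by
    rw [hm, hqdef]; push_cast; rfl
  have hdC : (δ ρ : ℂ) = (q : ℂ) := by rw [hqd, hqdef]; push_cast; rfl
  have hM : (φ : G → ℂ) 1 = (S.e : ℂ) * (((q + 1) * β φ + q * (S.b φ ρ : ℤ) : ℤ) : ℂ) := by
    have h1 := hv 1
    rw [OneMemClass.coe_one] at h1
    rw [h1, hδ' ρ (hsub₂ hρ), hdC, Finset.sum_congr rfl (fun i hi => by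
      rw [hδ' i (hsub₁ hi), (hT₁ i hi).1, Nat.cast_one, mul_one]), Finset.sum_const, nsmul_eq_mul, hcardC]
    push_cast; ring
  have hV : (φ : G → ℂ) ((s : S.P.A) : G) = (((q ^ 2 - 1) * β φ - q * (S.b φ ρ : ℤ) : ℤ) : ℂ) := by
    rw [hv, hT₂ ρ hρ, hdC, Finset.sum_congr rfl (fun i hi => (hT₁ i hi).2), Finset.sum_const, nsmul_eq_mul,
      hcardC, heC]
    push_cast; ring
  have hdvd := S.dvd_of_values hs hs2 hM hV
  have hhq : (S.h : ℤ) = q ^ 3 := by rw [hh, hqdef]; push_cast; rfl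
  rw [hhq] at hdvd
  refine cube_alternative hq4' ?_ (by omega) ?_ ?_ ?_
  · obtain ⟨n', hn', e⟩ := S.q_pow
    rw [hqdef, e]; push_cast; exact dvd_pow_self 2 (by omega)
  · rw [pow_two]
    have := Finset.single_le_sum (f := fun φ => β φ * β φ) (fun i _ => mul_self_nonneg _) hφ
    linarith
  · rw [pow_two]
    have := Finset.single_le_sum (f := fun φ => r φ * r φ) (fun i _ => mul_self_nonneg _) hφ
    linarith
  · have e1 : β φ * (q ^ 2 + q + 1) - r φ * q = (q + 1) * β φ + q * (S.b φ ρ : ℤ) := by rw [hr]; ring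
    rw [e1]
    have h2 := dvd_add hdvd (dvd_mul_left ((q + 1) * β φ + q * (S.b φ ρ : ℤ)) (q ^ 3 + 1))
    refine h2.trans (dvd_of_eq ?_)
    ring

end Hyp

end CfsgLib.SuzukiZT
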