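/-
The order of the centre of the kernel is an odd power of two.
-/
import Cfsg.Agent.Lib.SuzukiZT.Central
import Cfsg.Agent.Lib.SuzukiZT.Cube

set_option autoImplicit false
set_option linter.unusedSectionVars false
set_option linter.style.haveILetI false
set_option maxHeartbeats 1600000

namespace CfsgLib.SuzukiZT

open MulAction Cfsg CfsgLib.CharTheory CfsgLib.ZassenhausDegree

universe u v

variable {G : Type u} {Ω : Type v} [Group G] [Fintype G] [MulAction G Ω] [Fintype Ω]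

namespace Hyp

variable (S : Hyp G Ω)

theorem h_eq_sq : S.h = S.q ^ 2 := S.card_h.resolve_right S.h_ne_cube

theorem q_ne_four_pow (l : ℕ) : S.q ≠ 4 ^ l := by
  classical
  intro hl
  have hh := S.h_eq_sq
  obtain ⟨s, hs, hs2⟩ := S.exists_involution
  obtain ⟨δ, T₁, T₂, hun, hdis, hδ, hT₁, hT₂, hm1, hS2⟩ := S.exists_types hs hs2
  have hδ' := fun Θ hΘ => (hδ Θ hΘ).2.2
  obtain ⟨T₀, hout, hgram, hval⟩ := S.exists_gram hδ'
  have hq4 := S.four_le_q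
  have he : S.e = S.q - 1 := by have := S.q_eq; omega
  have hsub₁ : T₁ ⊆ S.P.nontriv := hun ▸ Finset.subset_union_left
  have hsub₂ : T₂ ⊆ S.P.nontriv := hun ▸ Finset.subset_union_right
  rw [hh, pow_two S.q] at hm1 hS2
  have hm1' := Nat.eq_of_mul_eq_mul_left (by omega) hm1
  have hS2' := Nat.eq_of_mul_eq_mul_left (by omega) hS2
  have hm : T₁.card = 1 := by
    refine Nat.eq_of_mul_eq_mul_left (show 0 < S.e by omega) ?_
    have := S.q_eq
    omega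
  obtain ⟨θ₀, hT1s⟩ := Finset.card_eq_one.mp hm
  have hθ₀ : θ₀ ∈ T₁ := by rw [hT1s]; exact Finset.mem_singleton_self _
  obtain ⟨ρ₀, hρ₀n, hρ₀1⟩ := S.exists_large hδ'
  have hρ₀ : ρ₀ ∈ T₂ := by
    rcases Finset.mem_union.mp (hun ▸ hρ₀n) with h | h
    · exact absurd (hT₁ ρ₀ h).1 hρ₀1
    · exact h
  set d := δ ρ₀ with hd
  have hd0 : 0 < d := (hδ ρ₀ hρ₀n).1
  have hdall : ∀ Θ ∈ T₂, δ Θ = d := fun Θ hΘ =>
    S.delta_eq hs hs2 (hsub₂ hΘ) hρ₀n (hδ Θ (hsub₂ hΘ)).1 hd0 (hδ' Θ (hsub₂ hΘ)) (hδ' ρ₀ hρ₀n)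
      (hT₂ Θ hΘ) (hT₂ ρ₀ hρ₀)
  have hRd : T₂.card * d ^ 2 = S.q := by
    rw [← hS2', Finset.sum_congr rfl (fun Θ hΘ => by rw [hdall Θ hΘ]), Finset.sum_const, smul_eq_mul]
  obtain ⟨k, hk⟩ := (hδ ρ₀ hρ₀n).2.1
  change d = 2 ^ k at hk
  have hk1 : 1 ≤ k := by
    by_contra h0
    exact hρ₀1 (show d = 1 by rw [hk, show k = 0 by omega, pow_zero])
  have hqd : d ^ 2 ≠ S.q := by
    obtain ⟨θ, ω, hθ, h1, hω, hωv⟩ := S.omega_data hs hs2 hρ₀n (hδ' ρ₀ hρ₀n) (hT₂ ρ₀ hρ₀) hd0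
    exact S.sq_ne_q hh hθ h1 hd0 hω hωv
  obtain ⟨i, hi1, hR⟩ : ∃ i, 1 ≤ i ∧ T₂.card = 4 ^ i := by
    have hd2 : d ^ 2 = 4 ^ k := by rw [hk, ← pow_mul, mul_comm k 2, pow_mul]; norm_num
    have hkl : k < l := by
      by_contra hge
      push Not at hge
      refine hqd ?_
      have h1 : S.q ≤ d ^ 2 := by rw [hl, hd2]; exact Nat.pow_le_pow_right (by norm_num) hge
      have h2 : d ^ 2 ≤ S.q := hRd ▸ Nat.le_mul_of_pos_left _ (Finset.card_pos.mpr ⟨ρ₀, hρ₀⟩)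
      omega
    refine ⟨l - k, by omega, ?_⟩
    refine Nat.eq_of_mul_eq_mul_right (show 0 < d ^ 2 by positivity) ?_
    rw [hRd, hl, hd2, ← pow_add, Nat.sub_add_cancel hkl.le]
  have hR4 : 4 ≤ T₂.card := by rw [hR]; exact Nat.le_self_pow (by omega) 4
  obtain ⟨ε, μ, β, hε, hμi, hμT, hb⟩ := S.exists_family hδ' hsub₂ hdall (by omega) hout
  set q : ℤ := (S.q : ℤ) with hqdef
  set R : ℤ := (T₂.card : ℤ) with hRdef
  set D : ℤ := (d : ℤ) with hDdef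
  have hq4' : 4 ≤ q := by rw [hqdef]; exact_mod_cast hq4
  have hR4' : 4 ≤ R := by rw [hRdef]; exact_mod_cast hR4
  have hqRD : q = R * D ^ 2 := by rw [hqdef, hRdef, hDdef, ← hRd]; push_cast; rfl
  have hd1 : (δ θ₀ : ℤ) = 1 := by rw [(hT₁ θ₀ hθ₀).1]; rfl
  set a : IrrCharacter G → ℤ := fun φ => (S.b φ θ₀ : ℤ) with ha
  have hne : ∀ ρ ∈ T₂, θ₀ ≠ ρ := fun ρ hρ e => Finset.disjoint_left.mp hdis hθ₀ (e ▸ hρ)
  have haa : 2 * ∑ φ ∈ T₀, a φ * a φ = q := by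
    have h := hgram θ₀ (hsub₁ hθ₀) θ₀ (hsub₁ hθ₀)
    rw [if_pos rfl, hd1] at h
    linear_combination h
  have hab : ∀ ρ ∈ T₂, 2 * (∑ φ ∈ T₀, β φ * a φ + ε * a (μ ρ)) = (q - 2) * D := by
    intro ρ hρ
    have h := hgram ρ (hsub₂ hρ) θ₀ (hsub₁ hθ₀)
    simp only [hb _ ρ hρ, hdall ρ hρ, hd1, if_neg (Ne.symm (hne ρ hρ)), mul_zero, zero_add, mul_one] at h
    rw [sum_shift (hμT ρ hρ)] at h
    exact h
  set A := a (μ ρ₀) with hA
  have hAi : ∀ ρ ∈ T₂, a (μ ρ) = A := fun ρ hρ => by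
    have h1 := hab ρ hρ
    have h2 := hab ρ₀ hρ₀
    rw [← hA] at h2
    have h3 : ε * a (μ ρ) = ε * A := by linarith
    rcases hε with rfl | rfl <;> linarith
  set N := T₀ \ T₂.image μ with hN
  have hsplit : ∀ f : IrrCharacter G → ℤ, ∑ φ ∈ T₀, f φ = ∑ φ ∈ N, f φ + ∑ i ∈ T₂, f (μ i) := fun f => by
    rw [hN, ← Finset.sum_image hμi, Finset.sum_sdiff]
    intro φ hφ
    obtain ⟨i, hi, rfl⟩ := Finset.mem_image.mp hφ
    exact hμT i hi
  have hNb : ∀ φ ∈ N, ∀ ρ ∈ T₂, (S.b φ ρ : ℤ) = β φ := fun φ hφ ρ hρ => by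
    rw [hb φ ρ hρ, if_neg (fun e => (Finset.mem_sdiff.mp hφ).2 (Finset.mem_image.mpr ⟨ρ, hρ, e.symm⟩)), add_zero]
  -- the reduced coefficient
  set w : IrrCharacter G → ℤ := fun φ => β φ - D * a φ with hw
  have hwsum : ∑ φ ∈ N, w φ * w φ ≤ D ^ 2 + 1 := by
    have h0 : ∑ φ ∈ N, w φ * w φ = ∑ φ ∈ N, ((S.b φ ρ₀ : ℤ) - D * a φ) * ((S.b φ ρ₀ : ℤ) - D * a φ) :=
      Finset.sum_congr rfl fun φ hφ => by rw [hNb φ hφ ρ₀ hρ₀]
    rw [h0]
    refine (Finset.sum_le_sum_of_subset_of_nonneg Finset.sdiff_subset fun φ _ _ => mul_self_nonneg _).trans ?_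
    have e : ∀ φ, ((S.b φ ρ₀ : ℤ) - D * a φ) * ((S.b φ ρ₀ : ℤ) - D * a φ) =
        (S.b φ ρ₀ : ℤ) * S.b φ ρ₀ - 2 * D * ((S.b φ ρ₀ : ℤ) * S.b φ θ₀) + D * D * (a φ * a φ) := fun φ => by
      rw [ha]; ring
    rw [Finset.sum_congr rfl fun φ _ => e φ, Finset.sum_add_distrib, Finset.sum_sub_distrib, ← Finset.mul_sum,
      ← Finset.mul_sum]
    have h1 := hgram ρ₀ hρ₀n ρ₀ hρ₀n
    have h2 := hgram ρ₀ hρ₀n θ₀ (hsub₁ hθ₀)
    rw [if_pos rfl, ← hd, ← hDdef] at h1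
    rw [if_neg (Ne.symm (hne ρ₀ hρ₀)), hd1, ← hd, ← hDdef] at h2
    refine le_of_mul_le_mul_left (le_of_eq ?_) (show (0 : ℤ) < 2 by norm_num)
    linear_combination h1 - (2 * D) * h2 + (D * D) * haa
  have hkey : ∀ φ ∈ N, a φ ≠ 0 → a φ = 1 ∧ D ^ 2 + 1 < 2 * (w φ * w φ) := by
    intro φ hφ hane
    have hφT : φ ∈ T₀ := (Finset.mem_sdiff.mp hφ).1
    have ha1 : 1 ≤ a φ := by
      have : 0 ≤ a φ := by rw [ha]; exact Int.natCast_nonneg _
      omega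
    have ha2 : 2 * a φ ^ 2 ≤ q := by
      have := Finset.single_le_sum (f := fun φ => a φ * a φ) (fun i _ => mul_self_nonneg _) hφT
      rw [pow_two]; linarith
    have hw2 : w φ ^ 2 ≤ D ^ 2 + 1 := by
      have := Finset.single_le_sum (f := fun φ => w φ * w φ) (fun i _ => mul_self_nonneg _) hφ
      rw [pow_two (w φ)]; linarith
    have hv : ∀ x : S.P.A, (φ : G → ℂ) x = (a φ : ℂ) * (θ₀ : S.P.A → ℂ) x +
        (β φ : ℂ) * ∑ ρ ∈ T₂, (ρ : S.P.A → ℂ) x := fun x => by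
      rw [(hval φ hφT).2 x, hun, Finset.sum_union hdis, hT1s, Finset.sum_singleton, Finset.mul_sum]
      congr 1
      refine Finset.sum_congr rfl fun ρ hρ => ?_
      rw [← hNb φ hφ ρ hρ, Int.cast_natCast]
    have hM : (φ : G → ℂ) 1 = (S.e : ℂ) * ((a φ * (q + 1) + R * D * w φ : ℤ) : ℂ) := by
      have h1 := hv 1
      rw [OneMemClass.coe_one] at h1
      rw [h1, hδ' θ₀ (hsub₁ hθ₀), (hT₁ θ₀ hθ₀).1, Finset.sum_congr rfl (fun ρ hρ => by
        rw [hδ' ρ (hsub₂ hρ), hdall ρ hρ]), Finset.sum_const, nsmul_eq_mul, hqRD]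
      simp only [hw, hRdef, hDdef]
      push_cast; ring
    have hV : (φ : G → ℂ) ((s : S.P.A) : G) = ((q * a φ - (a φ * (q + 1) + R * D * w φ) : ℤ) : ℂ) := by
      rw [hv, (hT₁ θ₀ hθ₀).2, Finset.sum_congr rfl (fun ρ hρ => by rw [hT₂ ρ hρ, hdall ρ hρ]), Finset.sum_const,
        nsmul_eq_mul, show (S.e : ℂ) = (q : ℂ) - 1 by rw [hqdef, Int.cast_natCast, S.q_eq]; push_cast; ring,
        hqRD]
      simp only [hw, hRdef, hDdef]
      push_cast; ring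
    have hMpos : 0 < a φ * (q + 1) + R * D * w φ := by
      obtain ⟨n, hn, hdeg⟩ := irr_degree_pos φ.2
      rw [hdeg] at hM
      have h1 : (n : ℤ) = (S.e : ℤ) * (a φ * (q + 1) + R * D * w φ) := by exact_mod_cast hM
      have h2 : (0 : ℤ) < (S.e : ℤ) * (a φ * (q + 1) + R * D * w φ) := by rw [← h1]; exact_mod_cast hn
      exact pos_of_mul_pos_right h2 (Int.natCast_nonneg _)
    have hdvd := S.dvd_of_values hs hs2 hM hV
    rw [show (S.h : ℤ) = q ^ 2 by rw [hh, hqdef]; push_cast; rfl] at hdvd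
    have hres := square_large (q := q) (R := R) (d := D) (a := a φ) (w := w φ) (i := i) (k := k) hi1
      (by rw [hRdef, hR]; push_cast; rfl) (by rw [hDdef, hk]; push_cast; rfl) hk1 hqRD ha1 ha2 hw2 hMpos ?_
    · exact ⟨hres.1, by rw [← pow_two]; exact hres.2⟩
    · have h2 := dvd_add hdvd (dvd_mul_left (a φ * (q + 1) + R * D * w φ) (q ^ 2 + 1))
      refine h2.trans (dvd_of_eq ?_)
      ring
  have hle : ∑ φ ∈ N, a φ * a φ ≤ 1 := by
    set B := N.filter fun φ => a φ ≠ 0 with hB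
    have h1 : ∑ φ ∈ N, a φ * a φ = (B.card : ℤ) := by
      rw [← Finset.sum_filter_add_sum_filter_not N (fun φ => a φ ≠ 0),
        Finset.sum_eq_zero (s := N.filter fun φ => ¬ a φ ≠ 0) (fun φ hφ => by
          rw [not_not.mp (Finset.mem_filter.mp hφ).2, mul_zero]), add_zero, ← hB,
        Finset.sum_congr rfl (fun φ hφ => by
          rw [(hkey φ (Finset.mem_filter.mp hφ).1 (Finset.mem_filter.mp hφ).2).1, mul_one]),
        Finset.sum_const, nsmul_eq_mul, mul_one]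
    rw [h1]
    have : B.card ≤ 1 := by
      rw [Finset.card_le_one]
      intro x hx y hy
      by_contra hxy
      have hxN := Finset.mem_filter.mp hx
      have hyN := Finset.mem_filter.mp hy
      have hx' := (hkey x hxN.1 hxN.2).2
      have hy' := (hkey y hyN.1 hyN.2).2
      have := Finset.sum_le_sum_of_subset_of_nonneg (s := {x, y}) (t := N) (f := fun φ => w φ * w φ)
        (by simp [Finset.insert_subset_iff, hxN.1, hyN.1]) fun φ _ _ => mul_self_nonneg _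
      rw [Finset.sum_pair hxy] at this
      linarith
    exact_mod_cast this
  rw [hsplit, Finset.sum_congr (s₁ := T₂) rfl (fun ρ hρ => by rw [hAi ρ hρ]), Finset.sum_const, nsmul_eq_mul,
    ← hRdef] at haa
  set Sn := ∑ φ ∈ N, a φ * a φ with hSn
  have hSn0 : 0 ≤ Sn := Finset.sum_nonneg fun φ _ => mul_self_nonneg _
  have hSn1 : Sn = 0 := by
    by_contra hne'
    have hone : Sn = 1 := by omega
    rw [hone, hqRD] at haa
    have hdvd : R ∣ 2 := ⟨D ^ 2 - 2 * (A * A), by linear_combination haa⟩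
    have := Int.le_of_dvd (by norm_num) hdvd
    omega
  rw [hSn1, zero_add, hqRD] at haa
  have h2A : 2 * (A * A) = D ^ 2 :=
    mul_left_cancel₀ (show R ≠ 0 by omega) (by linear_combination haa)
  have hDk : D ^ 2 = 4 ^ k := by
    rw [hDdef, hk]; push_cast; rw [← pow_mul, mul_comm k 2, pow_mul]; norm_num
  refine sq_ne_half_four_pow hk1 (a := A) (w := 1) (fun e => ?_) ?_
  · rw [e] at h2A
    rw [hDk] at h2A
    have : (0 : ℤ) < 4 ^ k := by positivity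
    linarith
  · rw [one_pow, mul_one, ← hDk, ← h2A, pow_two]

theorem q_odd_pow : ∃ n, Odd n ∧ 1 < n ∧ S.q = 2 ^ n := by
  obtain ⟨n, hn, e⟩ := S.q_pow
  refine ⟨n, ?_, by omega, e⟩
  rw [← Nat.not_even_iff_odd]
  rintro ⟨l, rfl⟩
  refine S.q_ne_four_pow l ?_
  rw [e, pow_add, ← mul_pow]
  norm_num

include S in
theorem isSuzuki : Cfsg.IsSuzuki G := by
  obtain ⟨n, ⟨m, rfl⟩, hn, e⟩ := S.q_odd_pow
  refine ⟨S.simple, m, by omega, ?_⟩
  rw [S.P.card_G]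
  show (S.h + 1) * S.h * S.e = _
  rw [S.h_eq_sq, show S.e = S.q - 1 from by have := S.q_eq; omega, e]
  ring

end Hyp

end CfsgLib.SuzukiZT
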